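import Mathlib
import Groth.Agent.Lib.Helper5.KInj.Derived
import Groth.Agent.Lib.Helper5.KProj.DerAdj

/-!
# The derived adjunction `F ⊣ RH` for an adjunction `F ⊣ H` with `F` exact
-/

set_option autoImplicit false
universe w v u
open CategoryTheory Limits

namespace Helper5.KInj

section General

variable {C : Type u} [Category.{v} C] [Abelian C] [HasDerivedCategory.{w} C]
  {H : Type*} [Category H]

open DerivedCategory

/-- every object of the derived category is the image of a K-injective complex -/
theorem exists_iso_Qh_kinj (hC : HasKInjRes C) (Y : DerivedCategory C) :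
    ∃ (I : CochainComplex C ℤ) (_ : I.IsKInjective),
      Nonempty (Y ≅ Qh.obj ((HomotopyCategory.quotient C (ComplexShape.up ℤ)).obj I)) := by
  obtain ⟨I, f, hI, hf⟩ := hC (Q.objPreimage Y)
  haveI : QuasiIso f := hf
  haveI : IsIso (Q.map f) := by
    rw [DerivedCategory.isIso_Q_map_iff_quasiIso]
    exact hf
  let e : Q.obj (Q.objPreimage Y) ≅ Q.obj I := asIso (Q.map f)
  exact ⟨I, hI, ⟨(Q.objObjPreimageIso Y).symm ≪≫ e⟩⟩

variable (F : HomotopyCategory C (ComplexShape.up ℤ) ⥤ H)

/-- a functor with a comparison map which is invertible on K-injectives is the right derived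
functor -/
theorem isRightDerivedFunctor_of_isIso (hC : HasKInjRes C) (G : DerivedCategory C ⥤ H)
    (β : F ⟶ Qh ⋙ G)
    (hβ : ∀ (I : CochainComplex C ℤ) [I.IsKInjective],
      IsIso (β.app ((HomotopyCategory.quotient C (ComplexShape.up ℤ)).obj I))) :
    G.IsRightDerivedFunctor β (HomotopyCategory.quasiIso C (ComplexShape.up ℤ)) := by
  have := hasPointwiseRightDerivedFunctor F hC
  let W := HomotopyCategory.quasiIso C (ComplexShape.up ℤ)
  let RF := F.totalRightDerived Qh W
  let α : F ⟶ Qh ⋙ RF := F.totalRightDerivedUnit Qh W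
  rw [Functor.isRightDerivedFunctor_iff_isIso_rightDerivedDesc RF α W G β]
  have key : ∀ Y : DerivedCategory C, IsIso ((RF.rightDerivedDesc α W G β).app Y) := by
    intro Y
    obtain ⟨I, hI, ⟨e⟩⟩ := exists_iso_Qh_kinj hC Y
    rw [NatTrans.isIso_app_iff_of_iso _ e]
    have h1 := RF.rightDerived_fac_app α W G β ((HomotopyCategory.quotient C (ComplexShape.up ℤ)).obj I)
    have i1 : IsIso (α.app ((HomotopyCategory.quotient C (ComplexShape.up ℤ)).obj I)) :=
      isIso_app_of_isKInjective F hC RF α I
    have i2 := hβ I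
    rw [← h1] at i2
    exact IsIso.of_isIso_comp_left (α.app ((HomotopyCategory.quotient C (ComplexShape.up ℤ)).obj I)) _
  exact NatIso.isIso_of_isIso_app _

end General

section Derived

universe w' v' u'

variable {C : Type u} [Category.{v} C] [Abelian C] [HasDerivedCategory.{w} C]
  {C' : Type u'} [Category.{v'} C'] [Abelian C'] [HasDerivedCategory.{w'} C']
  {F : C ⥤ C'} {H : C' ⥤ C} [F.Additive] [H.Additive] [PreservesFiniteLimits F]
  [PreservesFiniteColimits F] (adj : F ⊣ H)

open DerivedCategory Groth.Agent.Lib.Helper5.KProj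

variable (H) in
/-- `K(C') ⥤ D(C)` induced by `H` -/
noncomputable abbrev KhR : HomotopyCategory C' (ComplexShape.up ℤ) ⥤ DerivedCategory C :=
  H.mapHomotopyCategory (ComplexShape.up ℤ) ⋙ Qh

variable (H) in
abbrev HasR : Prop :=
  (KhR H).HasRightDerivedFunctor (HomotopyCategory.quasiIso C' (ComplexShape.up ℤ))

variable (H) in
/-- the total right derived functor of `H` -/
noncomputable abbrev RD [HasR H] : DerivedCategory C' ⥤ DerivedCategory C :=
  (KhR H).totalRightDerived Qh (HomotopyCategory.quasiIso C' (ComplexShape.up ℤ))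

variable (H) in
noncomputable abbrev Rη [HasR H] : KhR H ⟶ Qh ⋙ RD H :=
  (KhR H).totalRightDerivedUnit Qh (HomotopyCategory.quasiIso C' (ComplexShape.up ℤ))

theorem hasR (hC : HasKInjRes C') : HasR H :=
  have := hasPointwiseRightDerivedFunctor (KhR H) hC
  inferInstance

variable (F) in
/-- the comparison for the exact functor `F` -/
noncomputable def αF : Qh ⋙ F.mapDerivedCategory ⟶ F.mapHomotopyCategory (ComplexShape.up ℤ) ⋙ Qh :=
  (F.mapDerivedCategoryFactorsh).hom

instance : (F.mapDerivedCategory).IsLeftDerivedFunctor (αF F)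
    (HomotopyCategory.quasiIso C (ComplexShape.up ℤ)) :=
  Functor.isLeftDerivedFunctor_of_inverts _ _ (F.mapDerivedCategoryFactorsh)

theorem isLeft_auxR [HasR H] :
    (F.mapDerivedCategory ⋙ RD H).IsLeftDerivedFunctor
      ((Functor.associator _ _ _).inv ≫ Functor.whiskerRight (αF F) (RD H))
      (HomotopyCategory.quasiIso C (ComplexShape.up ℤ)) := by
  have hinv : (HomotopyCategory.quasiIso C (ComplexShape.up ℤ)).IsInvertedBy
      ((F.mapHomotopyCategory (ComplexShape.up ℤ) ⋙ Qh) ⋙ RD H) := by
    intro X Y f hf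
    have h1 : IsIso (Qh.map f) := Localization.inverts Qh _ f hf
    have h2 : IsIso ((Qh ⋙ F.mapDerivedCategory).map f) := by
      dsimp
      infer_instance
    have h3 : IsIso ((F.mapHomotopyCategory (ComplexShape.up ℤ) ⋙ Qh).map f) :=
      ((NatIso.isIso_map_iff (F.mapDerivedCategoryFactorsh) f)).1 h2
    dsimp at h3 ⊢
    infer_instance
  rw [Functor.isLeftDerivedFunctor_iff_of_inverts _ _ hinv]
  have : IsIso (αF F) := by
    dsimp [αF]
    infer_instance
  infer_instance

theorem isRight_auxR [HasR H] (hC : HasKInjRes C') :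
    (RD H ⋙ F.mapDerivedCategory).IsRightDerivedFunctor
      (Functor.whiskerRight (Rη H) F.mapDerivedCategory ≫ (Functor.associator _ _ _).hom)
      (HomotopyCategory.quasiIso C' (ComplexShape.up ℤ)) := by
  refine isRightDerivedFunctor_of_isIso _ hC _ _ (fun I _ => ?_)
  have := isIso_app_of_isKInjective (KhR H) hC (RD H) (Rη H) I
  dsimp
  rw [Category.comp_id]
  infer_instance

/-- the derived adjunction `F ⊣ RH` for an adjunction `F ⊣ H` with `F` exact -/
noncomputable def derivedAdjR [HasR H] (hC : HasKInjRes C') : F.mapDerivedCategory ⊣ RD H :=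
  haveI := isLeft_auxR (F := F) (H := H)
  haveI := isRight_auxR (F := F) (H := H) hC
  (adjH adj (ComplexShape.up ℤ)).derived (HomotopyCategory.quasiIso C (ComplexShape.up ℤ))
    (HomotopyCategory.quasiIso C' (ComplexShape.up ℤ)) (αF F) (Rη H)

end Derived

end Helper5.KInj
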