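import Mathlib
import Groth.Prelude.Def_DDual2
import Groth.Agent.Lib.Helper5.Shriek.DerAdjR
import Groth.Agent.Lib.Helper5.RHomK.Basic

/-!
# Existence of the right adjoint of restriction of scalars on derived categories
-/

set_option autoImplicit false
universe u
open CategoryTheory Limits

attribute [local instance] HasDerivedCategory.standard

namespace Helper5.Shriek

variable {A B : Type u} [CommRing A] [CommRing B] (φ : A →+* B)

instance additive_coextendScalars : (ModuleCat.coextendScalars.{u, u, u} φ).Additive :=
  (ModuleCat.restrictCoextendScalarsAdj.{u, u, u} φ).right_adjoint_additive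

/-- the derived coextension of scalars `RHom_A(B, -)` -/
noncomputable def RCoext : Dual.D A ⥤ Dual.D B :=
  haveI := Helper5.KInj.hasR (H := ModuleCat.coextendScalars.{u, u, u} φ)
    (Helper5.RHomK.hasKInjRes_moduleCat (A := A))
  Helper5.KInj.RD (ModuleCat.coextendScalars.{u, u, u} φ)

/-- restriction of scalars is left adjoint to derived coextension -/
noncomputable def rAdj : DRing.restrictD φ ⊣ RCoext φ :=
  haveI := Helper5.KInj.hasR (H := ModuleCat.coextendScalars.{u, u, u} φ)
    (Helper5.RHomK.hasKInjRes_moduleCat (A := A))
  Helper5.KInj.derivedAdjR (ModuleCat.restrictCoextendScalarsAdj.{u, u, u} φ)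
    (Helper5.RHomK.hasKInjRes_moduleCat (A := A))

end Helper5.Shriek
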