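import Mathlib
import Groth.Prelude.Def_DDual2
import Groth.Agent.Lib.Helper5.Shriek.RAdj
import Groth.Agent.Lib.Helper5.DTenLib.Base

/-!
# Calculus of restriction functors and their adjoints on derived categories of rings
-/

set_option autoImplicit false
universe u
open CategoryTheory Limits

attribute [local instance] HasDerivedCategory.standard

namespace Helper5.Shriek

open DerivedCategory

section Lift

universe w₁ w₂ v₁ v₂ u₁ u₂

variable {C₁ : Type u₁} [Category.{v₁} C₁] [Abelian C₁] [HasDerivedCategory.{w₁} C₁]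
  {C₂ : Type u₂} [Category.{v₂} C₂] [Abelian C₂] [HasDerivedCategory.{w₂} C₂]

/-- two functors on derived categories induced by isomorphic functors on complexes are
isomorphic -/
noncomputable def liftIsoOfFactors (F' G' : DerivedCategory C₁ ⥤ DerivedCategory C₂)
    (Fc Gc : CochainComplex C₁ ℤ ⥤ CochainComplex C₂ ℤ)
    (hF : Q ⋙ F' ≅ Fc ⋙ Q) (hG : Q ⋙ G' ≅ Gc ⋙ Q) (e : Fc ≅ Gc) : F' ≅ G' :=
  letI : Localization.Lifting Q (HomologicalComplex.quasiIso C₁ (ComplexShape.up ℤ))
    (Fc ⋙ Q) F' := ⟨hF⟩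
  letI : Localization.Lifting Q (HomologicalComplex.quasiIso C₁ (ComplexShape.up ℤ))
    (Gc ⋙ Q) G' := ⟨hG⟩
  Localization.liftNatIso Q (HomologicalComplex.quasiIso C₁ (ComplexShape.up ℤ))
    (Fc ⋙ Q) (Gc ⋙ Q) F' G' (Functor.isoWhiskerRight e Q)

end Lift

section Comp

variable {R₁ R₂ R₃ : Type u} [CommRing R₁] [CommRing R₂] [CommRing R₃]
  (f : R₁ →+* R₂) (g : R₂ →+* R₃)

/-- restriction along a composite -/
noncomputable def restrictDCompIso :
    DRing.restrictD (g.comp f) ≅ DRing.restrictD g ⋙ DRing.restrictD f :=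
  liftIsoOfFactors _ _
    ((ModuleCat.restrictScalars.{u} (g.comp f)).mapHomologicalComplex (ComplexShape.up ℤ))
    ((ModuleCat.restrictScalars.{u} g).mapHomologicalComplex (ComplexShape.up ℤ) ⋙
      (ModuleCat.restrictScalars.{u} f).mapHomologicalComplex (ComplexShape.up ℤ))
    ((ModuleCat.restrictScalars.{u} (g.comp f)).mapDerivedCategoryFactors)
    ((Functor.associator _ _ _).symm ≪≫
      Functor.isoWhiskerRight ((ModuleCat.restrictScalars.{u} g).mapDerivedCategoryFactors) _ ≪≫
      Functor.associator _ _ _ ≪≫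
      Functor.isoWhiskerLeft _ ((ModuleCat.restrictScalars.{u} f).mapDerivedCategoryFactors) ≪≫
      (Functor.associator _ _ _).symm)
    (Functor.mapHomologicalComplexCompIso
      (ModuleCat.restrictScalarsComp'.{u} f g (g.comp f) rfl).symm (ComplexShape.up ℤ)).symm

end Comp

section Id

variable (R : Type u) [CommRing R]

/-- restriction along the identity -/
noncomputable def restrictDIdIso : DRing.restrictD (RingHom.id R) ≅ 𝟭 (Dual.D R) :=
  liftIsoOfFactors _ _
    ((ModuleCat.restrictScalars.{u} (RingHom.id R)).mapHomologicalComplex (ComplexShape.up ℤ))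
    (𝟭 _)
    ((ModuleCat.restrictScalars.{u} (RingHom.id R)).mapDerivedCategoryFactors)
    (Functor.rightUnitor _ ≪≫ (Functor.leftUnitor _).symm)
    (NatIso.mapHomologicalComplex (ModuleCat.restrictScalarsId'.{u} (RingHom.id R) rfl)
      (ComplexShape.up ℤ) ≪≫ Functor.mapHomologicalComplexIdIso _ _)

end Id

section Eq

variable {R₁ R₂ : Type u} [CommRing R₁] [CommRing R₂]

/-- restriction along equal maps -/
noncomputable def restrictDEqIso {f g : R₁ →+* R₂} (h : f = g) :
    DRing.restrictD f ≅ DRing.restrictD g := by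
  subst h
  exact Iso.refl _

end Eq

section Adj

variable {R₁ R₂ R₃ : Type u} [CommRing R₁] [CommRing R₂] [CommRing R₃]
  (f : R₁ →+* R₂) (g : R₂ →+* R₃)

/-- the right adjoint of restriction along a composite -/
noncomputable def rightAdjCompIso {Rf : Dual.D R₁ ⥤ Dual.D R₂} {Rg : Dual.D R₂ ⥤ Dual.D R₃}
    {Rgf : Dual.D R₁ ⥤ Dual.D R₃} (adjf : DRing.restrictD f ⊣ Rf) (adjg : DRing.restrictD g ⊣ Rg)
    (adjgf : DRing.restrictD (g.comp f) ⊣ Rgf) : Rgf ≅ Rf ⋙ Rg :=
  adjgf.rightAdjointUniq (Adjunction.ofNatIsoLeft (adjg.comp adjf) (restrictDCompIso f g).symm)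

/-- derived base change along a composite -/
noncomputable def lbcCompIso :
    DRing.LBaseChange (g.comp f) ≅ DRing.LBaseChange f ⋙ DRing.LBaseChange g :=
  (Groth.Agent.Lib.Helper5.DTenLib.myAdj (g.comp f)).leftAdjointUniq
    (Adjunction.ofNatIsoRight ((Groth.Agent.Lib.Helper5.DTenLib.myAdj f).comp
      (Groth.Agent.Lib.Helper5.DTenLib.myAdj g)) (restrictDCompIso f g).symm)

/-- a right adjoint of restriction commutes with shifts -/
noncomputable def rightAdjShiftIso {Rf : Dual.D R₁ ⥤ Dual.D R₂} (adjf : DRing.restrictD f ⊣ Rf)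
    (X : Dual.D R₁) (k : ℤ) : Rf.obj (X⟦k⟧) ≅ (Rf.obj X)⟦k⟧ :=
  (Adjunction.RightAdjointCommShift.iso adjf k).app X

end Adj

end Helper5.Shriek
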