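import Mathlib
import Groth.Prelude.Def_DDual2
import Groth.Agent.Lib.Helper5.DRing.FlatBC
import Groth.Agent.Lib.Helper5.Shriek.Calc
import Groth.Agent.Lib.Helper3.BCDer

/-!
# The base change isomorphism `P' ⊗_P M ≅ A' ⊗_A M` for a pushout square of rings
-/

set_option autoImplicit false
universe u
open CategoryTheory Limits TensorProduct

attribute [local instance] HasDerivedCategory.standard

namespace Helper5.Shriek

open Groth.Agent.Helper5.FlatBC
open scoped ChangeOfRings

section Mod

variable (P P' A A' : Type u) [CommRing P] [CommRing P'] [CommRing A] [CommRing A']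
  [Algebra P P'] [Algebra P A] [Algebra A A'] [Algebra P' A'] [Algebra P A']
  [IsScalarTower P A A'] [IsScalarTower P P' A']

/-- restriction along `ψ : P → A` -/
noncomputable abbrev resψ : ModuleCat.{u} A ⥤ ModuleCat.{u} P :=
  ModuleCat.restrictScalars (algebraMap P A)

/-- restriction along `ψ' : P' → A'` -/
noncomputable abbrev resψ' : ModuleCat.{u} A' ⥤ ModuleCat.{u} P' :=
  ModuleCat.restrictScalars (algebraMap P' A')

/-- restriction along `f : P → P'` -/
noncomputable abbrev resf : ModuleCat.{u} P' ⥤ ModuleCat.{u} P :=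
  ModuleCat.restrictScalars (algebraMap P P')

/-- restriction along `g : A → A'` -/
noncomputable abbrev resg : ModuleCat.{u} A' ⥤ ModuleCat.{u} A :=
  ModuleCat.restrictScalars (algebraMap A A')

/-- the two restrictions `A' → P` agree -/
noncomputable def κ : resg A A' ⋙ resψ P A ≅ resψ' P' A' ⋙ resf P P' :=
  (ModuleCat.restrictScalarsComp' (algebraMap P A) (algebraMap A A') (algebraMap P A')
    (IsScalarTower.algebraMap_eq P A A')).symm ≪≫
  ModuleCat.restrictScalarsComp' (algebraMap P P') (algebraMap P' A') (algebraMap P A')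
    (IsScalarTower.algebraMap_eq P P' A')

/-- `m ↦ 1 ⊗ m` -/
noncomputable def ζ (M : ModuleCat.{u} A) :
    (resψ P A).obj M ⟶ (resf P P').obj ((resψ' P' A').obj ((Ef (R := A) A').obj M)) :=
  (resψ P A).map ((ModuleCat.extendRestrictScalarsAdj (algebraMap A A')).unit.app M) ≫
    (κ P P' A A').hom.app ((Ef (R := A) A').obj M)

lemma ζ_apply (M : ModuleCat.{u} A) (m : M) :
    (ζ P P' A A' M).hom m = (1 : A') ⊗ₜ[A, algebraMap A A'] m := rfl

lemma ζ_nat {M M' : ModuleCat.{u} A} (h : M ⟶ M') :
    (resψ P A).map h ≫ ζ P P' A A' M' =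
      ζ P P' A A' M ≫ (resf P P').map ((resψ' P' A').map ((Ef (R := A) A').map h)) := by
  ext m
  rfl

/-- the canonical map `P' ⊗_P M → A' ⊗_A M` -/
noncomputable def β₀ : resψ P A ⋙ Ef (R := P) P' ⟶ Ef (R := A) A' ⋙ resψ' P' A' where
  app M := (Ef (R := P) P').map (ζ P P' A A' M) ≫
    (ModuleCat.extendRestrictScalarsAdj (algebraMap P P')).counit.app _
  naturality M M' h := by
    have h1 := (ModuleCat.extendRestrictScalarsAdj (algebraMap P P')).counit.naturality
      ((resψ' P' A').map ((Ef (R := A) A').map h))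
    simp only [Functor.comp_map, Functor.id_map, Functor.comp_obj, Functor.id_obj] at h1 ⊢
    rw [← Category.assoc, ← Functor.map_comp, ζ_nat, Functor.map_comp, Category.assoc, h1,
      Category.assoc]

set_option backward.isDefEq.respectTransparency false in
lemma β₀_apply (M : ModuleCat.{u} A) (s : P') (m : M) :
    ((β₀ P P' A A').app M).hom (s ⊗ₜ[P, algebraMap P P'] m) =
      (algebraMap P' A' s) ⊗ₜ[A, algebraMap A A'] m := by
  let m' : (resψ P A).obj M := m
  let x : (Ef (R := P) P').obj ((resψ P A).obj M) := (1 : P') ⊗ₜ[P, algebraMap P P'] m'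
  have h : (s ⊗ₜ[P, algebraMap P P'] m' : (Ef (R := P) P').obj ((resψ P A).obj M)) = s • x := by
    have h0 := (ModuleCat.ExtendScalars.smul_tmul (f := algebraMap P P')
      (M := (resψ P A).obj M) s 1 m').symm
    rw [mul_one] at h0
    exact h0
  show ((β₀ P P' A A').app M).hom (s ⊗ₜ[P, algebraMap P P'] m') = _
  rw [h, map_smul]
  have h1 : ((β₀ P P' A A').app M).hom x = (1 : A') ⊗ₜ[A, algebraMap A A'] m := by
    show ((ModuleCat.extendRestrictScalarsAdj (algebraMap P P')).counit.app _).hom
      ((1 : P') ⊗ₜ[P, algebraMap P P'] ((ζ P P' A A' M).hom m)) = _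
    exact ModuleCat.extendRestrictScalarsAdj_counit_app_apply_one_tmul (algebraMap P P')
      ((resψ' P' A').obj ((Ef (R := A) A').obj M)) _
  rw [h1]
  have h2 := ModuleCat.ExtendScalars.smul_tmul (f := algebraMap A A') (M := M)
    (algebraMap P' A' s) 1 m
  rw [mul_one] at h2
  exact h2

/-- the `A`-module structure on the restricted module -/
noncomputable def modA (M : ModuleCat.{u} A) : Module A ((resψ P A).obj M) :=
  inferInstanceAs (Module A M)

variable [Algebra.IsPushout P P' A A']

lemma β₀_bijective (M : ModuleCat.{u} A) :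
    Function.Bijective ((β₀ P P' A A').app M).hom := by
  letI : Module A ((resψ P A).obj M) := modA P A M
  haveI : IsScalarTower P A ((resψ P A).obj M) := ⟨fun p a m => by
    show (p • a) • (show M from m) = algebraMap P A p • (a • (show M from m))
    rw [Algebra.smul_def, mul_smul]⟩
  let cb := Algebra.IsPushout.cancelBaseChange P P' A A' ((resψ P A).obj M)
  let e1 := eqv P' ((resψ P A).obj M)
  let e2 := eqv A' M
  have key : ∀ z : P' ⊗[P] ((resψ P A).obj M),
      ((β₀ P P' A A').app M).hom (e1 z) = e2 (cb.symm z) := by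
    intro z
    induction z using TensorProduct.induction_on with
    | zero =>
      have a1 : e1 0 = 0 := map_zero e1
      have a2 : cb.symm 0 = 0 := map_zero cb.symm
      rw [a1, a2]
      exact (map_zero _).trans (map_zero e2).symm
    | tmul s m =>
      rw [Algebra.IsPushout.cancelBaseChange_symm_tmul]
      exact β₀_apply P P' A A' M s m
    | add x y hx hy =>
      have a1 : e1 (x + y) = e1 x + e1 y := map_add e1 x y
      have a2 : cb.symm (x + y) = cb.symm x + cb.symm y := map_add cb.symm x y
      rw [a1, a2]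
      exact ((map_add _ _ _).trans (congrArg₂ (· + ·) hx hy)).trans (map_add e2 _ _).symm
  have h2 : (((β₀ P P' A A').app M).hom : _ → _) = (fun z => e2 (cb.symm z)) ∘ e1.symm := by
    funext y
    obtain ⟨z, rfl⟩ := e1.surjective y
    rw [key]
    simp
  rw [h2]
  exact (e2.bijective.comp cb.symm.bijective).comp e1.symm.bijective

instance (M : ModuleCat.{u} A) : IsIso ((β₀ P P' A A').app M) :=
  (ConcreteCategory.isIso_iff_bijective _).2 (β₀_bijective P P' A A' M)

instance : IsIso (β₀ P P' A A') := NatIso.isIso_of_isIso_app _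

/-- the base change isomorphism on modules -/
noncomputable def β₀Iso : resψ P A ⋙ Ef (R := P) P' ≅ Ef (R := A) A' ⋙ resψ' P' A' :=
  asIso (β₀ P P' A A')

end Mod

section Der

open DerivedCategory Groth.Agent.Helper3.BCDer

variable (P P' A A' : Type u) [CommRing P] [CommRing P'] [CommRing A] [CommRing A']
  [Algebra P P'] [Algebra P A] [Algebra A A'] [Algebra P' A'] [Algebra P A']
  [IsScalarTower P A A'] [IsScalarTower P P' A'] [Algebra.IsPushout P P' A A']
  [Module.Flat P P'] [Module.Flat A A']

/-- the base change isomorphism on derived categories: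
`P' ⊗_P res_ψ(−) ≅ res_ψ'(A' ⊗_A −)` -/
noncomputable def βD : DRing.restrictD (algebraMap P A) ⋙ G (A := P) P' ≅
    G (A := A) A' ⋙ DRing.restrictD (algebraMap P' A') :=
  liftIsoOfFactors _ _
    ((resψ P A).mapHomologicalComplex (ComplexShape.up ℤ) ⋙
      (Ef (R := P) P').mapHomologicalComplex (ComplexShape.up ℤ))
    ((Ef (R := A) A').mapHomologicalComplex (ComplexShape.up ℤ) ⋙
      (resψ' P' A').mapHomologicalComplex (ComplexShape.up ℤ))
    ((Functor.associator _ _ _).symm ≪≫
      Functor.isoWhiskerRight ((resψ P A).mapDerivedCategoryFactors) _ ≪≫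
      Functor.associator _ _ _ ≪≫
      Functor.isoWhiskerLeft _ ((Ef (R := P) P').mapDerivedCategoryFactors) ≪≫
      (Functor.associator _ _ _).symm)
    ((Functor.associator _ _ _).symm ≪≫
      Functor.isoWhiskerRight ((Ef (R := A) A').mapDerivedCategoryFactors) _ ≪≫
      Functor.associator _ _ _ ≪≫
      Functor.isoWhiskerLeft _ ((resψ' P' A').mapDerivedCategoryFactors) ≪≫
      (Functor.associator _ _ _).symm)
    (Functor.mapHomologicalComplexCompIso (β₀Iso P P' A A') (ComplexShape.up ℤ) ≪≫
      (Functor.mapHomologicalComplexCompIso (Iso.refl (Ef (R := A) A' ⋙ resψ' P' A'))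
        (ComplexShape.up ℤ)).symm)

end Der

end Helper5.Shriek
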