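import Mathlib
import Groth.Prelude.Def_DDual2
import Groth.Agent.Lib.Helper3.BCDer
import Groth.Agent.Lib.Helper3.HomUnit

/-!
# Two tools: detecting isomorphisms with the unit object, and flat base change of `Hom`
into bounded below objects
-/

set_option autoImplicit false
universe u
open CategoryTheory Limits Pretriangulated Triangulated

attribute [local instance] HasDerivedCategory.standard

namespace Helper5.Shriek

open DerivedCategory Groth.Agent.Helper3.BCDer Groth.Agent.Helper3.BCAbs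
  Groth.Agent.Helper5.FlatBC

section Gen

variable {A : Type u} [CommRing A]

theorem isZero_of_unit_hom_subsingleton (Z : Dual.D A)
    (h : ∀ j : ℤ, ∀ k : Dual.inD A A ⟶ Z⟦j⟧, k = 0) : IsZero Z := by
  have hz : ∀ j : ℤ, IsZero ((DerivedCategory.homologyFunctor (ModuleCat.{u} A) j).obj Z) := by
    intro j
    haveI : Subsingleton (Dual.inD A A ⟶ Z⟦j⟧) := ⟨fun f g => by rw [h j f, h j g]⟩
    haveI : Subsingleton (Dual.HD A Z j) :=
      (Groth.Agent.Helper3.HomUnit.unitEquiv Z j).symm.toEquiv.subsingleton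
    exact ModuleCat.isZero_of_subsingleton _
  haveI : Z.IsLE 0 := (DerivedCategory.isLE_iff Z 0).2 (fun i _ => hz i)
  haveI : Z.IsGE 1 := (DerivedCategory.isGE_iff Z 1).2 (fun i _ => hz i)
  exact (TStructure.t : TStructure (Dual.D A)).isZero Z 0 1

theorem isIso_of_unit_bijective {X Y : Dual.D A} (c : X ⟶ Y)
    (h : ∀ j : ℤ, Function.Bijective (fun k : Dual.inD A A ⟶ X⟦j⟧ => k ≫ c⟦j⟧')) :
    IsIso c := by
  let F : Dual.D A ⥤ AddCommGrpCat :=
    preadditiveCoyoneda.obj (Opposite.op (Dual.inD A A))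
  letI : F.ShiftSequence ℤ := Functor.ShiftSequence.tautological F ℤ
  have h1 : F.homologicalKernel.trW c := by
    rw [Functor.mem_homologicalKernel_trW_iff]
    intro n
    rw [ConcreteCategory.isIso_iff_bijective]
    exact h n
  obtain ⟨Z, g, δ, hT, hZ⟩ := h1
  have hZ0 : IsZero Z := by
    apply isZero_of_unit_hom_subsingleton
    intro j k
    have := hZ j
    have h2 : IsZero (AddCommGrpCat.of (Dual.inD A A ⟶ Z⟦j⟧)) := this
    haveI := AddCommGrpCat.subsingleton_of_isZero h2
    exact Subsingleton.elim (α := (Dual.inD A A ⟶ Z⟦j⟧)) _ _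
  exact (Triangle.isZero₃_iff_isIso₁ _ hT).1 hZ0

theorem isIso_of_unit_shift_bijective {X Y : Dual.D A} (c : X ⟶ Y)
    (h : ∀ j : ℤ, Function.Bijective (fun k : (Dual.inD A A)⟦j⟧ ⟶ X => k ≫ c)) :
    IsIso c := by
  apply isIso_of_unit_bijective
  intro j
  let adjS := (shiftEquiv (Dual.D A) j).symm.toAdjunction
  have e : (fun k : Dual.inD A A ⟶ X⟦j⟧ => k ≫ c⟦j⟧') =
      (adjS.homEquiv (Dual.inD A A) Y) ∘ (fun k : (Dual.inD A A)⟦-j⟧ ⟶ X => k ≫ c) ∘
        (adjS.homEquiv (Dual.inD A A) X).symm := by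
    funext k
    simp only [Function.comp_apply]
    rw [Adjunction.homEquiv_naturality_right, Equiv.apply_symm_apply]
    rfl
  rw [e]
  exact (adjS.homEquiv _ _).bijective.comp ((h (-j)).comp (adjS.homEquiv _ _).symm.bijective)

end Gen

section Plus

variable {A : Type u} [CommRing A] (B : Type u) [CommRing B] [Algebra A B] [Module.Flat A B]
  [IsNoetherianRing A]

/-- flat base change for `Hom(K, L)`: `K` bounded above and good against bounded objects,
`L` bounded below -/
theorem bijBC_plus' (K L : Dual.D A) (b : ℤ) [hKb : K.IsLE b] (hK : GoodK B K) (a : ℤ) [L.IsGE a] :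
    BijBC (G (A := A) B) (semiLinear_G B) K L := by
  let t : TStructure (Dual.D A) := TStructure.t
  let tB : TStructure (Dual.D B) := TStructure.t
  let T := (t.triangleLEGE b (b + 1) rfl).obj L
  have hT : T ∈ distTriang _ := t.triangleLEGE_distinguished b (b + 1) rfl L
  haveI g3 : T.obj₃.IsGE (b + 1) := by
    change t.IsGE ((t.truncGE (b + 1)).obj L) (b + 1)
    infer_instance
  haveI l1 : T.obj₁.IsLE b := by
    change t.IsLE ((t.truncLE b).obj L) b
    infer_instance
  haveI g1 : T.obj₁.IsGE a := by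
    change t.IsGE ((t.truncLE b).obj L) a
    infer_instance
  have hb1 : Bdd T.obj₁ := ⟨a, b, g1, l1⟩
  have h1 : BijBC (G (A := A) B) (semiLinear_G B) K T.obj₁ := hK T.obj₁ hb1
  have h1' : BijBC (G (A := A) B) (semiLinear_G B) K (T.obj₁⟦(1 : ℤ)⟧) :=
    hK _ (bdd_shift _ 1 hb1)
  have van : ∀ (M : Dual.D A) (m : ℤ), M.IsGE m → b < m →
      BijBC (G (A := A) B) (semiLinear_G B) K M := by
    intro M m hM hbm
    haveI : Subsingleton (K ⟶ M) :=
      ⟨fun f g => by
        rw [t.zero_of_isLE_of_isGE f b m hbm hKb hM, t.zero_of_isLE_of_isGE g b m hbm hKb hM]⟩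
    haveI : ((G (A := A) B).obj K).IsLE b := isLE_G B _ _
    haveI : ((G (A := A) B).obj M).IsGE m := isGE_G B _ _
    haveI : Subsingleton ((G (A := A) B).obj K ⟶ (G (A := A) B).obj M) :=
      ⟨fun f g => by
        rw [tB.zero_of_isLE_of_isGE f b m hbm inferInstance inferInstance,
          tB.zero_of_isLE_of_isGE g b m hbm inferInstance inferInstance]⟩
    exact bijBC_of_subsingleton _ _ _ _
  have h3 : BijBC (G (A := A) B) (semiLinear_G B) K T.obj₃ := van _ (b + 1) g3 (by omega)
  have h3' : BijBC (G (A := A) B) (semiLinear_G B) K (T.obj₃⟦(-1 : ℤ)⟧) :=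
    van _ (b + 2) (t.isGE_shift _ (b + 1) (-1) (b + 2) (by omega)) (by omega)
  exact ⟨injBC_of_dist' _ _ K T hT h3'.2 h1.1 h3.1, surjBC_of_dist' _ _ K T hT h1.2 h3.2 h1'.1⟩

/-- flat base change for `Hom(K, L)`, `K` bounded with finite cohomology, `L` bounded below -/
theorem bijBC_plus (K L : Dual.D A) (hK : Bdd K)
    (hKf : ∀ i : ℤ, Module.Finite A (Dual.HD A K i)) (a : ℤ) [L.IsGE a] :
    BijBC (G (A := A) B) (semiLinear_G B) K L := by
  obtain ⟨a', b, hKa, hKb⟩ := hK
  exact bijBC_plus' B K L b (fun L' hL' => bijBC_main B K L' ⟨a', b, hKa, hKb⟩ hKf hL') a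

end Plus

end Helper5.Shriek
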