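import Mathlib
import Groth.Prelude.Def_DDual2
import Groth.Agent.Lib.Helper5.Shriek.BCBeta
import Groth.Agent.Lib.Helper5.Shriek.BCGen
import Groth.Agent.Lib.Helper3.FinAdj
import Groth.Agent.Lib.Helper3.FinCoh

/-!
# Flat base change for a right adjoint of restriction along a surjection: the comparison map
-/

set_option autoImplicit false
universe u
open CategoryTheory Limits TensorProduct Triangulated

attribute [local instance] HasDerivedCategory.standard

namespace Helper5.Shriek

open DerivedCategory Groth.Agent.Helper3.BCDer Groth.Agent.Helper3.BCAbs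
  Groth.Agent.Helper5.FlatBC

lemma bijective_precomp_iso' {C : Type*} [Category C] {X Y : C} (α : X ≅ Y) (Z : C) :
    Function.Bijective (fun f : Y ⟶ Z => α.hom ≫ f) :=
  Function.bijective_iff_has_inverse.2 ⟨fun g => α.inv ≫ g, fun f => by simp, fun g => by simp⟩

section Cmp

variable {P P' A A' : Type u} [CommRing P] [CommRing P'] [CommRing A] [CommRing A']
  [Algebra P P'] [Algebra P A] [Algebra A A'] [Algebra P' A'] [Algebra P A']
  [IsScalarTower P A A'] [IsScalarTower P P' A'] [Algebra.IsPushout P P' A A']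
  [Module.Flat P P'] [Module.Flat A A']
  {R : Dual.D P ⥤ Dual.D A} (adj : DRing.restrictD (algebraMap P A) ⊣ R)
  {R' : Dual.D P' ⥤ Dual.D A'} (adj' : DRing.restrictD (algebraMap P' A') ⊣ R')

/-- the base change comparison `A' ⊗_A R(N) → R'(P' ⊗_P N)` -/
noncomputable def bcCmp (N : Dual.D P) :
    (G (A := A) A').obj (R.obj N) ⟶ R'.obj ((G (A := P) P').obj N) :=
  adj'.homEquiv _ _ ((βD P P' A A').inv.app (R.obj N) ≫ (G (A := P) P').map (adj.counit.app N))

lemma flat_comp_bcCmp {S : Dual.D A} (N : Dual.D P)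
    (x : (G (A := A) A').obj S ⟶ (G (A := A) A').obj (R.obj N)) :
    (adj'.homEquiv _ _).symm (x ≫ bcCmp adj adj' N) =
      (DRing.restrictD (algebraMap P' A')).map x ≫ (βD P P' A A').inv.app (R.obj N) ≫
        (G (A := P) P').map (adj.counit.app N) := by
  rw [Adjunction.homEquiv_naturality_left_symm, bcCmp, Equiv.symm_apply_apply]

/-- the auxiliary map `P' ⊗_P Hom(res S, N) → Hom(A' ⊗ S, A' ⊗ R N)` -/
noncomputable def Ψ (S : Dual.D A) (N : Dual.D P) :
    P' ⊗[P] ((DRing.restrictD (algebraMap P A)).obj S ⟶ N) →+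
      ((G (A := A) A').obj S ⟶ (G (A := A) A').obj (R.obj N)) :=
  TensorProduct.liftAddHom
    { toFun := fun p' =>
        { toFun := fun φ => algebraMap P' A' p' • (G (A := A) A').map (adj.homEquiv _ _ φ)
          map_zero' := by
            rw [adj.homAddEquiv_zero, Functor.map_zero, smul_zero]
          map_add' := fun φ φ' => by
            rw [adj.homAddEquiv_add, Functor.map_add, smul_add] }
      map_zero' := by
        ext φ
        simp
      map_add' := fun b b' => by
        ext φ
        simp [add_smul] }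
    (fun r p' φ => by
      show algebraMap P' A' (r • p') • (G (A := A) A').map (adj.homEquiv _ _ φ) =
        algebraMap P' A' p' • (G (A := A) A').map (adj.homEquiv _ _ (r • φ))
      have h1 : r • φ = (DRing.restrictD (algebraMap P A)).map (algebraMap P A r • 𝟙 S) ≫ φ := by
        rw [Groth.Agent.Helper3.FinAdj.res_map_smul, CategoryTheory.Functor.map_id,
          Linear.smul_comp, Category.id_comp]
      rw [h1, Adjunction.homEquiv_naturality_left, Linear.smul_comp, Category.id_comp,
        semiLinear_G A' (algebraMap P A r), Algebra.smul_def, map_mul, mul_smul,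
        ← IsScalarTower.algebraMap_apply P P' A', IsScalarTower.algebraMap_apply P A A',
        smul_comm])

lemma Ψ_tmul (S : Dual.D A) (N : Dual.D P) (p' : P')
    (φ : (DRing.restrictD (algebraMap P A)).obj S ⟶ N) :
    Ψ adj S N (p' ⊗ₜ φ) =
      algebraMap P' A' p' • (G (A := A) A').map (adj.homEquiv _ _ φ) := rfl

lemma flat_Ψ_comp (S : Dual.D A) (N : Dual.D P)
    (z : P' ⊗[P] ((DRing.restrictD (algebraMap P A)).obj S ⟶ N)) :
    (adj'.homEquiv _ _).symm (Ψ adj S N z ≫ bcCmp adj adj' N) =
      (βD P P' A A').inv.app S ≫ cmp (G (A := P) P') (semiLinear_G P') _ _ z := by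
  induction z using TensorProduct.induction_on with
  | zero =>
    rw [map_zero, map_zero, zero_comp, adj'.homAddEquiv_symm_zero, comp_zero]
  | tmul p' φ =>
    rw [flat_comp_bcCmp, Ψ_tmul, cmp_tmul, Groth.Agent.Helper3.FinAdj.res_map_smul,
      Linear.smul_comp, Linear.comp_smul]
    congr 1
    have nat := (βD P P' A A').inv.naturality (adj.homEquiv _ _ φ)
    simp only [Functor.comp_map] at nat
    rw [← Category.assoc, nat, Category.assoc, ← Functor.map_comp]
    congr 2
    exact (adj.homEquiv_counit (g := adj.homEquiv S N φ)).symm.trans (Equiv.symm_apply_apply _ _)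
  | add x y hx hy =>
    rw [map_add, map_add, Preadditive.add_comp, adj'.homAddEquiv_symm_add, hx, hy,
      Preadditive.comp_add]

variable (hψ' : Function.Surjective (algebraMap P' A'))

include hψ' in
lemma Ψ_surjective_of_surjBC (S : Dual.D A) (N : Dual.D P)
    (hs : SurjBC (G (A := A) A') (semiLinear_G A') S (R.obj N)) :
    Function.Surjective (Ψ (P' := P') (A' := A') adj S N) := by
  intro x
  obtain ⟨w, rfl⟩ := hs x
  induction w using TensorProduct.induction_on with
  | zero => exact ⟨0, by rw [map_zero, map_zero]⟩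
  | tmul a' h =>
    obtain ⟨p', rfl⟩ := hψ' a'
    refine ⟨p' ⊗ₜ (adj.homEquiv _ _).symm h, ?_⟩
    rw [Ψ_tmul, cmp_tmul, Equiv.apply_symm_apply]
  | add x y hx hy =>
    obtain ⟨zx, hzx⟩ := hx
    obtain ⟨zy, hzy⟩ := hy
    exact ⟨zx + zy, by rw [map_add, map_add, hzx, hzy]⟩

include hψ' in
/-- the key bijectivity statement -/
theorem bcCmp_comp_bijective (S : Dual.D A) (N : Dual.D P)
    (hs : SurjBC (G (A := A) A') (semiLinear_G A') S (R.obj N))
    (hb : BijBC (G (A := P) P') (semiLinear_G P') ((DRing.restrictD (algebraMap P A)).obj S) N) :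
    Function.Bijective
      (fun x : (G (A := A) A').obj S ⟶ (G (A := A) A').obj (R.obj N) =>
        x ≫ bcCmp adj adj' N) := by
  have hΨ := Ψ_surjective_of_surjBC adj hψ' S N hs
  constructor
  · intro x₁ x₂ h
    obtain ⟨z₁, rfl⟩ := hΨ x₁
    obtain ⟨z₂, rfl⟩ := hΨ x₂
    have h' := congrArg (adj'.homEquiv _ _).symm h
    simp only at h'
    rw [flat_Ψ_comp, flat_Ψ_comp] at h'
    have h'' := (cancel_epi ((βD P P' A A').inv.app S)).1 h'
    rw [hb.1 h'']
  · intro k
    obtain ⟨z, hz⟩ := hb.2 ((βD P P' A A').hom.app S ≫ (adj'.homEquiv _ _).symm k)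
    refine ⟨Ψ adj S N z, ?_⟩
    apply (adj'.homEquiv _ _).symm.injective
    simp only
    rw [flat_Ψ_comp, hz, Iso.inv_hom_id_app_assoc]

end Cmp

section Main

variable {P P' A A' : Type u} [CommRing P] [CommRing P'] [CommRing A] [CommRing A']
  [Algebra P P'] [Algebra P A] [Algebra A A'] [Algebra P' A'] [Algebra P A']
  [IsScalarTower P A A'] [IsScalarTower P P' A'] [Algebra.IsPushout P P' A A']
  [Module.Flat P P'] [Module.Flat A A'] [IsNoetherianRing P] [IsNoetherianRing A]
  {R : Dual.D P ⥤ Dual.D A} (adj : DRing.restrictD (algebraMap P A) ⊣ R)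
  {R' : Dual.D P' ⥤ Dual.D A'} (adj' : DRing.restrictD (algebraMap P' A') ⊣ R')

/-- the unit object goes to the unit object under base change -/
noncomputable def GunitIso (A A' : Type u) [CommRing A] [CommRing A'] [Algebra A A']
    [Module.Flat A A'] : (G (A := A) A').obj (Dual.inD A A) ≅ Dual.inD A' A' :=
  Groth.Agent.Helper3.BCDual.GinDIso A' A ≪≫
    (DerivedCategory.singleFunctor (ModuleCat.{u} A') 0).mapIso
      (((eqv A' (ModuleCat.of A A)).symm ≪≫ₗ
        TensorProduct.AlgebraTensorModule.rid A A' A').toModuleIso)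

/-- the underlying `P`-module of `A` -/
noncomputable def resUnitLin (P A : Type u) [CommRing P] [CommRing A] [Algebra P A] :
    ((ModuleCat.restrictScalars.{u} (algebraMap P A)).obj (ModuleCat.of A A)) ≃ₗ[P] A where
  toFun := fun x => x
  invFun := fun x => x
  left_inv := fun _ => rfl
  right_inv := fun _ => rfl
  map_add' := fun _ _ => rfl
  map_smul' := fun p x => (Algebra.smul_def p (show A from x)).symm

/-- restriction of the unit object -/
noncomputable def resUnitIso (P A : Type u) [CommRing P] [CommRing A] [Algebra P A] :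
    (DRing.restrictD (algebraMap P A)).obj (Dual.inD A A) ≅ Dual.inD P A :=
  Groth.Agent.Helper3.FinAdj.resInD (algebraMap P A) (ModuleCat.of A A) ≪≫
    (DerivedCategory.singleFunctor (ModuleCat.{u} P) 0).mapIso (resUnitLin P A).toModuleIso

include adj in
lemma isGE_R (hψ : Function.Surjective (algebraMap P A)) (N : Dual.D P) (a : ℤ) [N.IsGE a] :
    (R.obj N).IsGE a := by
  haveI : Module.Finite P A := Module.Finite.of_surjective (Algebra.linearMap P A) hψ
  rw [DerivedCategory.isGE_iff]
  intro i hi
  haveI := Groth.Agent.Helper3.FinCoh.subsingleton_homology_R adj N a i hi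
  exact ModuleCat.isZero_of_subsingleton _

variable (hψ : Function.Surjective (algebraMap P A))
  (hψ' : Function.Surjective (algebraMap P' A'))

include hψ hψ' in
/-- **Flat base change** for a right adjoint of restriction along a surjection of noetherian
rings, on bounded below objects. -/
theorem isIso_bcCmp (N : Dual.D P) (a : ℤ) [N.IsGE a] : IsIso (bcCmp adj adj' N) := by
  haveI : Module.Finite P A := Module.Finite.of_surjective (Algebra.linearMap P A) hψ
  haveI : (R.obj N).IsGE a := isGE_R adj hψ N a
  apply isIso_of_unit_shift_bijective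
  intro j
  let S : Dual.D A := sh A A j
  haveI : S.IsLE (-j) := (TStructure.t : TStructure (Dual.D A)).isLE_shift _ 0 j (-j)
  have hs : SurjBC (G (A := A) A') (semiLinear_G A') S (R.obj N) :=
    (bijBC_plus' A' S (R.obj N) (-j) (goodK_sh_finite A' A j) a).2
  let K : Dual.D P := sh P A j
  haveI : K.IsLE (-j) := (TStructure.t : TStructure (Dual.D P)).isLE_shift _ 0 j (-j)
  have hb0 : BijBC (G (A := P) P') (semiLinear_G P') K N :=
    bijBC_plus' P' K N (-j) (goodK_sh_finite P' A j) a
  let eK : (DRing.restrictD (algebraMap P A)).obj S ≅ K :=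
    ((DRing.restrictD (algebraMap P A)).commShiftIso j).app (Dual.inD A A) ≪≫
      (shiftFunctor (Dual.D P) j).mapIso (resUnitIso P A)
  have hb : BijBC (G (A := P) P') (semiLinear_G P')
      ((DRing.restrictD (algebraMap P A)).obj S) N :=
    bijBC_of_iso_left _ _ eK.symm N hb0
  have key := bcCmp_comp_bijective adj adj' hψ' S N hs hb
  let w : (G (A := A) A').obj S ≅ (Dual.inD A' A')⟦j⟧ :=
    Groth.Agent.Helper3.BCDual.GshiftIso A' (Dual.inD A A) j ≪≫
      (shiftFunctor (Dual.D A') j).mapIso (GunitIso A A')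
  have e : (fun k : (Dual.inD A' A')⟦j⟧ ⟶ (G (A := A) A').obj (R.obj N) =>
      k ≫ bcCmp adj adj' N) =
      (fun x => w.inv ≫ x) ∘ (fun x : (G (A := A) A').obj S ⟶ _ => x ≫ bcCmp adj adj' N) ∘
        (fun k => w.hom ≫ k) := by
    funext k
    simp
  rw [e]
  exact (bijective_precomp_iso' w.symm _).comp (key.comp (bijective_precomp_iso' w _))

/-- the resulting isomorphism -/
noncomputable def bcIso (N : Dual.D P) (a : ℤ) [N.IsGE a] :
    (G (A := A) A').obj (R.obj N) ≅ R'.obj ((G (A := P) P').obj N) :=
  haveI := isIso_bcCmp adj adj' hψ hψ' N a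
  asIso (bcCmp adj adj' N)

end Main

end Helper5.Shriek
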