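import Mathlib
import Groth.Prelude.Def_DDual2
import Groth.Agent.Lib.Helper5.Shriek.Calc

/-!
# The fundamental local isomorphism predicate and its formal properties
-/

set_option autoImplicit false
universe u
open CategoryTheory Limits

attribute [local instance] HasDerivedCategory.standard

namespace Helper5.Shriek

open DerivedCategory Groth.Agent.Lib.Helper5.DTenLib

/-- `FLI ι χ c`: for every right adjoint `Rχ` of restriction along `χ : T → P`, one has
`Rχ (N ⊗^L_P T) ≅ N[-c]` for all `N` in `D(P)`, the base change being along `ι : P → T`. -/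
def FLI {P T : Type u} [CommRing P] [CommRing T] (ι : P →+* T) (χ : T →+* P) (c : ℤ) : Prop :=
  ∀ (Rχ : Dual.D T ⥤ Dual.D P) (_ : DRing.restrictD χ ⊣ Rχ) (N : Dual.D P),
    Nonempty (Rχ.obj ((DRing.LBaseChange ι).obj N) ≅ N⟦-c⟧)

section

variable {P T T' : Type u} [CommRing P] [CommRing T] [CommRing T']

theorem FLI.comp {ι : P →+* T} {χ : T →+* P} {c : ℤ} {ι' : T →+* T'} {χ' : T' →+* T} {c' : ℤ}
    (h : FLI ι χ c) (h' : FLI ι' χ' c') : FLI (ι'.comp ι) (χ.comp χ') (c + c') := by
  intro R adj N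
  let e1 : R ≅ RCoext χ' ⋙ RCoext χ := rightAdjCompIso χ' χ (rAdj χ') (rAdj χ) adj
  let e2 := lbcCompIso ι ι'
  obtain ⟨a⟩ := h' (RCoext χ') (rAdj χ') ((DRing.LBaseChange ι).obj N)
  obtain ⟨b⟩ := h (RCoext χ) (rAdj χ) N
  refine ⟨R.mapIso (e2.app N) ≪≫ e1.app _ ≪≫ (RCoext χ).mapIso a ≪≫
    rightAdjShiftIso χ (rAdj χ) _ (-c') ≪≫ (shiftFunctor (Dual.D P) (-c')).mapIso b ≪≫ ?_⟩
  exact (shiftFunctorAdd' (Dual.D P) (-c) (-c') (-(c + c')) (by ring)).symm.app N

/-- the inverse equivalences given by restriction along a ring isomorphism -/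
noncomputable def restrictDEquiv (e : P ≃+* T) : Dual.D P ≌ Dual.D T :=
  CategoryTheory.Equivalence.mk (DRing.restrictD e.symm.toRingHom) (DRing.restrictD e.toRingHom)
    ((restrictDIdIso P).symm ≪≫ restrictDEqIso (by ext x; simp) ≪≫
      restrictDCompIso e.toRingHom e.symm.toRingHom)
    ((restrictDCompIso e.symm.toRingHom e.toRingHom).symm ≪≫
      restrictDEqIso (by ext x; simp) ≪≫ restrictDIdIso T)

theorem FLI.of_ringEquiv (e : P ≃+* T) : FLI e.toRingHom e.symm.toRingHom 0 := by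
  intro R adj N
  let E := restrictDEquiv e
  have adjE : DRing.restrictD e.symm.toRingHom ⊣ DRing.restrictD e.toRingHom := E.toAdjunction
  -- `R` is right adjoint to `E.functor`, hence isomorphic to `E.inverse`
  let e1 : R ≅ DRing.restrictD e.toRingHom := adj.rightAdjointUniq adjE
  -- `LBaseChange e` is left adjoint to `E.inverse`, hence isomorphic to `E.functor`
  let e2 : DRing.LBaseChange e.toRingHom ≅ DRing.restrictD e.symm.toRingHom :=
    (myAdj e.toRingHom).leftAdjointUniq adjE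
  let e3 : N ≅ (DRing.restrictD e.toRingHom).obj ((DRing.restrictD e.symm.toRingHom).obj N) :=
    E.unitIso.app N
  refine ⟨R.mapIso (e2.app N) ≪≫ e1.app _ ≪≫ e3.symm ≪≫ ?_⟩
  exact (shiftFunctorZero' (Dual.D P) (-0) (by ring)).symm.app N

end

end Helper5.Shriek
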