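import Mathlib
import Groth.Prelude.Def_DDual2
import Groth.Agent.Lib.Helper5.FG.Base
import Groth.Agent.Lib.Helper5.FG.Loc

/-!
# Hypersurfaces: the exact sequence `0 → M → M → M/fM → 0` for flat `M`
-/

set_option autoImplicit false
universe u
open CategoryTheory Limits

attribute [local instance] HasDerivedCategory.standard

namespace Helper5.Shriek.Hyp

open Groth.Agent.Helper5.FlatBC Helper5.FG TensorProduct
open scoped ChangeOfRings

variable {C : Type u} [CommRing C] (f : C)

/-- the hypersurface ring `C / (f)` -/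
abbrev Cb : Type u := C ⧸ Ideal.span {f}

lemma mk_f : (algebraMap C (Cb f)) f = 0 :=
  Ideal.Quotient.eq_zero_iff_mem.2 (Ideal.mem_span_singleton_self f)

/-- the unit `M → C/(f) ⊗ M` as a linear map -/
noncomputable abbrev ηL (M : ModuleCat.{u} C) : M →ₗ[C] (Eres (A := C) (Cb f)).obj M :=
  ((etaRes (A := C) (Cb f)).app M).hom

lemma ηL_eq (M : ModuleCat.{u} C) (m : M) :
    ηL f M m = eqvA (Cb f) M ((1 : Cb f) ⊗ₜ[C] m) := by
  have h := LinearMap.congr_fun (eqvA_comp_mk (Cb f) M) m
  exact h.symm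

lemma ηL_smul_f (M : ModuleCat.{u} C) (m : M) : ηL f M (f • m) = 0 := by
  rw [ηL_eq, ← TensorProduct.smul_tmul, Algebra.smul_def, mul_one, mk_f, TensorProduct.zero_tmul,
    map_zero]

lemma ηL_surjective (M : ModuleCat.{u} C) : Function.Surjective (ηL f M) := by
  intro y
  obtain ⟨z, rfl⟩ := (eqvA (Cb f) M).surjective y
  induction z using TensorProduct.induction_on with
  | zero => exact ⟨0, by rw [map_zero, map_zero]⟩
  | tmul b m =>
    obtain ⟨c, rfl⟩ := Ideal.Quotient.mk_surjective b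
    refine ⟨c • m, ?_⟩
    rw [ηL_eq, ← TensorProduct.smul_tmul, Algebra.smul_def, mul_one]
    rfl
  | add x y hx hy =>
    obtain ⟨a, ha⟩ := hx
    obtain ⟨b, hb⟩ := hy
    exact ⟨a + b, by rw [map_add, ha, hb, map_add]⟩

lemma ηL_ker (M : ModuleCat.{u} C) (m : M) (h : ηL f M m = 0) : ∃ m' : M, f • m' = m := by
  have h1 : (1 : Cb f) ⊗ₜ[C] m = 0 := by
    apply (eqvA (Cb f) M).injective
    rw [map_zero, ← ηL_eq]
    exact h
  have h2 := congrArg (TensorProduct.quotTensorEquivQuotSMul M (Ideal.span {f})) h1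
  rw [map_zero, TensorProduct.quotTensorEquivQuotSMul_mk_one_tmul,
    Submodule.Quotient.mk_eq_zero, Submodule.ideal_span_singleton_smul] at h2
  obtain ⟨m', -, hm'⟩ := h2
  exact ⟨m', hm'⟩

lemma smul_f_injective (hf : ∀ x : C, f * x = 0 → x = 0) (M : ModuleCat.{u} C)
    [Module.Flat C M] : Function.Injective (fun m : M => f • m) := by
  have hinj : Function.Injective (LinearMap.lsmul C C f) := by
    rw [injective_iff_map_eq_zero]
    intro x hx
    exact hf x hx
  have h := Module.Flat.lTensor_preserves_injective_linearMap (M := M) _ hinj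
  intro m m' hm
  have h3 : (LinearMap.lsmul C C f).lTensor M (m ⊗ₜ[C] (1 : C)) =
      (LinearMap.lsmul C C f).lTensor M (m' ⊗ₜ[C] (1 : C)) := by
    rw [LinearMap.lTensor_tmul, LinearMap.lTensor_tmul]
    show m ⊗ₜ[C] (f • (1 : C)) = m' ⊗ₜ[C] (f • (1 : C))
    rw [TensorProduct.tmul_smul, TensorProduct.tmul_smul, TensorProduct.smul_tmul',
      TensorProduct.smul_tmul']
    exact congrArg (· ⊗ₜ[C] (1 : C)) hm
  have h4 := h h3
  have h5 := congrArg (TensorProduct.rid C M) h4
  simpa using h5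

/-- the short complex `0 → M → M → C/(f) ⊗ M → 0` -/
noncomputable def sc (M : ModuleCat.{u} C) : ShortComplex (ModuleCat.{u} C) :=
  ShortComplex.mk (f • 𝟙 M) ((etaRes (A := C) (Cb f)).app M) (by
    ext m
    exact ηL_smul_f f M m)

lemma sc_shortExact (hf : ∀ x : C, f * x = 0 → x = 0) (M : ModuleCat.{u} C) [Module.Flat C M] :
    (sc f M).ShortExact := by
  refine ShortComplex.ShortExact.mk' ?_ ?_ ?_
  · rw [ShortComplex.moduleCat_exact_iff]
    intro x hx
    obtain ⟨m', hm'⟩ := ηL_ker f M x hx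
    exact ⟨m', hm'⟩
  · rw [ModuleCat.mono_iff_injective]
    exact smul_f_injective f hf M
  · rw [ModuleCat.epi_iff_surjective]
    exact ηL_surjective f M

end Helper5.Shriek.Hyp
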