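import Mathlib
import Groth.Prelude.Def_DDual2
import Groth.Agent.Lib.Helper5.KFlat.LBCFlat
import Groth.Agent.Lib.Helper5.DTenLib.Base
import Groth.Agent.Lib.Helper5.Shriek.HypMod

/-!
# Hypersurfaces: the triangle `F → F → F/fF →` and the key bijection
-/

set_option autoImplicit false
universe u
open CategoryTheory Limits Pretriangulated

attribute [local instance] HasDerivedCategory.standard

namespace Helper5.Shriek.Hyp

open Groth.Agent.Helper5.FlatBC Helper5.FG DerivedCategory Groth.Agent.Helper3.AdjHtpyPlus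
  Groth.Agent.Lib.Helper5.KProj Groth.Agent.Lib.Helper5.DTenLib

variable {C : Type u} [CommRing C] (f : C)

/-- the projection `C → C/(f)` -/
abbrev π : C →+* Cb f := algebraMap C (Cb f)

/-- termwise restriction of scalars along the projection -/
noncomputable abbrev Rc' : DRing.Cx (Cb f) ⥤ DRing.Cx C :=
  (ModuleCat.restrictScalars.{u} (π f)).mapHomologicalComplex (ComplexShape.up ℤ)

/-- termwise extension of scalars along the projection -/
noncomputable abbrev E : DRing.Cx C ⥤ DRing.Cx (Cb f) := bcCx (π f)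

/-- the unit on complexes -/
noncomputable abbrev ηC (F : DRing.Cx C) : F ⟶ (Rc' f).obj ((E f).obj F) :=
  unitC (ModuleCat.extendRestrictScalarsAdj.{u, u, u} (π f)) (ComplexShape.up ℤ) F

/-- the short complex `0 → F → F → F/fF → 0` of complexes -/
noncomputable def scC (F : DRing.Cx C) : ShortComplex (DRing.Cx C) :=
  ShortComplex.mk (f • 𝟙 F) (ηC f F) (by
    ext i : 1
    exact (sc f (F.X i)).zero)

/-- functoriality of the short complex -/
noncomputable def scCMap {F G : DRing.Cx C} (x : F ⟶ G) : scC f F ⟶ scC f G where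
  τ₁ := x
  τ₂ := x
  τ₃ := (Rc' f).map ((E f).map x)
  comm₁₂ := by
    have h1 : x ≫ (f • 𝟙 G) = f • x := by rw [Linear.comp_smul, Category.comp_id]
    have h2 : (f • 𝟙 F) ≫ x = f • x := by rw [Linear.smul_comp, Category.id_comp]
    exact h1.trans h2.symm
  comm₂₃ := unitC_naturality (ModuleCat.extendRestrictScalarsAdj.{u, u, u} (π f)) _ x

/-- the comparison `res (Q L) ≅ Q (res L)` -/
noncomputable abbrev ρ (L : DRing.Cx (Cb f)) :
    (DRing.restrictD (π f)).obj (Q.obj L) ≅ Q.obj ((Rc' f).obj L) :=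
  ((ModuleCat.restrictScalars.{u} (π f)).mapDerivedCategoryFactors).app L

lemma ρ_nat {L L' : DRing.Cx (Cb f)} (g : L ⟶ L') :
    (DRing.restrictD (π f)).map (Q.map g) ≫ (ρ f L').hom = (ρ f L).hom ≫ Q.map ((Rc' f).map g) :=
  ((ModuleCat.restrictScalars.{u} (π f)).mapDerivedCategoryFactors).hom.naturality g

lemma ρ_nat' {L L' : DRing.Cx (Cb f)} (g : L ⟶ L') :
    (ρ f L).inv ≫ (DRing.restrictD (π f)).map (Q.map g) = Q.map ((Rc' f).map g) ≫ (ρ f L').inv := by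
  rw [Iso.inv_comp_eq, ← Category.assoc, ← ρ_nat, Category.assoc, Iso.hom_inv_id, Category.comp_id]

variable (hf : ∀ x : C, f * x = 0 → x = 0)

include hf in
lemma scC_shortExact (F : DRing.Cx C) (hF : DRing.TermwiseFlat F) : (scC f F).ShortExact := by
  apply HomologicalComplex.shortExact_of_degreewise_shortExact
  intro i
  haveI := hF i
  exact sc_shortExact f hf (F.X i)

/-- the connecting morphism -/
noncomputable def δ (F : DRing.Cx C) (hF : DRing.TermwiseFlat F) :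
    Q.obj ((Rc' f).obj ((E f).obj F)) ⟶ (Q.obj F)⟦(1 : ℤ)⟧ :=
  triangleOfSESδ (scC_shortExact f hf F hF)

/-- the triangle `F → F → F/fF →` -/
noncomputable def T (F : DRing.Cx C) (hF : DRing.TermwiseFlat F) : Triangle (Dual.D C) :=
  Triangle.mk (f • 𝟙 (Q.obj F)) (Q.map (ηC f F)) (δ f hf F hF)

lemma T_dist (F : DRing.Cx C) (hF : DRing.TermwiseFlat F) :
    T f hf F hF ∈ distTriang (Dual.D C) := by
  have h := triangleOfSES_distinguished (scC_shortExact f hf F hF)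
  have e : f • 𝟙 (Q.obj F) = Q.map (scC f F).f := by
    show f • 𝟙 _ = Q.map (f • 𝟙 _)
    rw [Functor.map_smul, CategoryTheory.Functor.map_id]
  unfold T
  rw [e]
  exact h

lemma δ_nat {F G : DRing.Cx C} (hF : DRing.TermwiseFlat F) (hG : DRing.TermwiseFlat G)
    (x : F ⟶ G) :
    δ f hf F hF ≫ (Q.map x)⟦(1 : ℤ)⟧' = Q.map ((Rc' f).map ((E f).map x)) ≫ δ f hf G hG :=
  triangleOfSESδ_naturality (scC_shortExact f hf F hF) (scC_shortExact f hf G hG) (scCMap f x)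

section Key

variable (G F : DRing.Cx C) (hG : DRing.TermwiseFlat G) (hF : DRing.TermwiseFlat F)

/-- the map whose bijectivity is the duality for a hypersurface -/
noncomputable def Φ (u : Q.obj ((E f).obj G) ⟶ Q.obj ((E f).obj F)) :
    (DRing.restrictD (π f)).obj (Q.obj ((E f).obj G)) ⟶ (Q.obj F)⟦(1 : ℤ)⟧ :=
  (DRing.restrictD (π f)).map u ≫ (ρ f ((E f).obj F)).hom ≫ δ f hf F hF

/-- the adjunction bijection in explicit form -/
noncomputable def θ (Y : Dual.D (Cb f)) (u : Q.obj ((E f).obj G) ⟶ Y) :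
    Q.obj G ⟶ (DRing.restrictD (π f)).obj Y :=
  Q.map (ηC f G) ≫ (ρ f ((E f).obj G)).inv ≫ (DRing.restrictD (π f)).map u

lemma θ_eq (Y : Dual.D (Cb f)) (u : Q.obj ((E f).obj G) ⟶ Y) :
    θ f G Y u = (myAdj (π f)).homEquiv _ _ ((lbcCmp (π f)).app G ≫ u) := by
  rw [Adjunction.homEquiv_unit, Functor.map_comp, ← Category.assoc]
  have h := derivedAdj_unit_cmp (ModuleCat.extendRestrictScalarsAdj.{u, u, u} (π f))
    (hasKProjRes_moduleCat C) G
  erw [h]
  rw [Category.assoc]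
  rfl

lemma θ_bijective [G.IsKProjective] (Y : Dual.D (Cb f)) : Function.Bijective (θ f G Y) := by
  have e : θ f G Y = ((myAdj (π f)).homEquiv _ _) ∘
      (fun u : Q.obj ((E f).obj G) ⟶ Y => (lbcCmp (π f)).app G ≫ u) := by
    funext u
    exact θ_eq f G Y u
  rw [e]
  refine ((myAdj (π f)).homEquiv _ _).bijective.comp ?_
  constructor
  · intro u u' h
    exact (cancel_epi ((lbcCmp (π f)).app G)).1 h
  · intro v
    exact ⟨inv ((lbcCmp (π f)).app G) ≫ v, by simp⟩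

lemma θ_Q_map (x : G ⟶ F) :
    θ f G _ (Q.map ((E f).map x)) = Q.map x ≫ Q.map (ηC f F) ≫ (ρ f ((E f).obj F)).inv := by
  rw [θ, ρ_nat', ← Category.assoc, ← Category.assoc, ← Functor.map_comp, ← Functor.map_comp,
    ← unitC_naturality]

lemma Φ_Q_map (x : G ⟶ F) :
    Φ f hf G F hF (Q.map ((E f).map x)) =
      (ρ f ((E f).obj G)).hom ≫ δ f hf G hG ≫ (Q.map x)⟦(1 : ℤ)⟧' := by
  rw [Φ, ← Category.assoc, ρ_nat, Category.assoc, ← δ_nat]

lemma Φ_add (u u' : Q.obj ((E f).obj G) ⟶ Q.obj ((E f).obj F)) :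
    Φ f hf G F hF (u + u') = Φ f hf G F hF u + Φ f hf G F hF u' := by
  rw [Φ, Φ, Φ, Functor.map_add, Preadditive.add_comp]

lemma Φ_sub (u u' : Q.obj ((E f).obj G) ⟶ Q.obj ((E f).obj F)) :
    Φ f hf G F hF (u - u') = Φ f hf G F hF u - Φ f hf G F hF u' := by
  rw [Φ, Φ, Φ, Functor.map_sub, Preadditive.sub_comp]

lemma θ_zero (Y : Dual.D (Cb f)) : θ f G Y 0 = 0 := by
  rw [θ, Functor.map_zero, comp_zero, comp_zero]

lemma smul_comm' {X Y : Dual.D C} (a : X ⟶ Y) : (f • 𝟙 X) ≫ a = a ≫ (f • 𝟙 Y) := by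
  rw [Linear.smul_comp, Linear.comp_smul, Category.id_comp, Category.comp_id]

lemma shift_smul (X : Dual.D C) : (f • 𝟙 X)⟦(1 : ℤ)⟧' = f • 𝟙 (X⟦(1 : ℤ)⟧) := by
  rw [Functor.map_smul, CategoryTheory.Functor.map_id]

include hG in
theorem Φ_injective [G.IsKProjective] : Function.Injective (Φ f hf G F hF) := by
  intro u u' h
  have h0 : Φ f hf G F hF (u - u') = 0 := by rw [Φ_sub, h, sub_self]
  set d := u - u' with hd
  suffices hd0 : d = 0 from sub_eq_zero.1 hd0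
  -- `θ d` comes from a map `x : G → F`
  have h1 : (θ f G _ d ≫ (ρ f ((E f).obj F)).hom) ≫ (T f hf F hF).mor₃ = 0 := by
    have : θ f G _ d ≫ (ρ f ((E f).obj F)).hom ≫ δ f hf F hF =
        Q.map (ηC f G) ≫ (ρ f ((E f).obj G)).inv ≫ Φ f hf G F hF d := by
      simp only [θ, Φ, Category.assoc]
    rw [Category.assoc]
    show θ f G _ d ≫ (ρ f ((E f).obj F)).hom ≫ δ f hf F hF = 0
    rw [this, h0, comp_zero, comp_zero]
  obtain ⟨x, hx⟩ := Triangle.coyoneda_exact₃ _ (T_dist f hf F hF) _ h1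
  change Q.obj G ⟶ Q.obj F at x
  change θ f G _ d ≫ (ρ f ((E f).obj F)).hom = x ≫ Q.map (ηC f F) at hx
  obtain ⟨x₀, hx₀⟩ := exists_Q_map_eq G F x
  have hx' : θ f G _ d ≫ (ρ f ((E f).obj F)).hom = Q.map x₀ ≫ Q.map (ηC f F) := by
    rw [hx₀]; exact hx
  have h2 : θ f G _ (Q.map ((E f).map x₀)) = θ f G _ d := by
    rw [θ_Q_map, ← Category.assoc, ← hx', Category.assoc, Iso.hom_inv_id, Category.comp_id]
  have h3 : Q.map ((E f).map x₀) = d := (θ_bijective f G _).1 h2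
  -- now use `Φ d = 0`
  rw [← h3, Φ_Q_map f hf G F hG hF] at h0
  have h4 : δ f hf G hG ≫ (Q.map x₀)⟦(1 : ℤ)⟧' = 0 :=
    (cancel_epi (ρ f ((E f).obj G)).hom).1 (by rw [h0, comp_zero])
  obtain ⟨y, hy⟩ := Triangle.yoneda_exact₃ _ (rot_of_distTriang _ (T_dist f hf G hG))
    ((Q.map x₀)⟦(1 : ℤ)⟧') h4
  obtain ⟨a, ha0⟩ := (shiftFunctor (Dual.D C) (1 : ℤ)).map_surjective
    (X := Q.obj G) (Y := Q.obj F) y
  replace hy : (Q.map x₀)⟦(1 : ℤ)⟧' = (-(f • 𝟙 (Q.obj G))⟦(1 : ℤ)⟧') ≫ a⟦(1 : ℤ)⟧' := by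
    rw [ha0]; exact hy
  have h5 : Q.map x₀ = -((f • 𝟙 (Q.obj G)) ≫ a) := by
    apply (shiftFunctor (Dual.D C) (1 : ℤ)).map_injective
    rw [hy, Functor.map_neg, Functor.map_comp, Preadditive.neg_comp]
  have h6 : (f • 𝟙 (Q.obj F)) ≫ Q.map (ηC f F) = 0 :=
    comp_distTriang_mor_zero₁₂ _ (T_dist f hf F hF)
  have h7 : θ f G _ d = 0 := by
    rw [← h2, θ_Q_map, h5, smul_comm', Preadditive.neg_comp, Category.assoc,
      ← Category.assoc (f • 𝟙 (Q.obj F)), h6, zero_comp, comp_zero, neg_zero]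
  exact (θ_bijective f G _).1 (h7.trans (θ_zero f G _).symm)

include hG in
theorem Φ_surjective [G.IsKProjective] : Function.Surjective (Φ f hf G F hF) := by
  intro v
  set w : Q.obj G ⟶ (Q.obj F)⟦(1 : ℤ)⟧ := Q.map (ηC f G) ≫ (ρ f ((E f).obj G)).inv ≫ v with hw
  have h0 : (f • 𝟙 (Q.obj G)) ≫ Q.map (ηC f G) = 0 :=
    comp_distTriang_mor_zero₁₂ _ (T_dist f hf G hG)
  have h1 : w ≫ (T f hf F hF).mor₁⟦(1 : ℤ)⟧' = 0 := by
    show w ≫ (f • 𝟙 (Q.obj F))⟦(1 : ℤ)⟧' = 0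
    rw [shift_smul, ← smul_comm', hw, ← Category.assoc, h0, zero_comp]
  obtain ⟨g, hg⟩ := Triangle.coyoneda_exact₁ _ (T_dist f hf F hF) w h1
  change Q.obj G ⟶ Q.obj ((Rc' f).obj ((E f).obj F)) at g
  change w = g ≫ δ f hf F hF at hg
  obtain ⟨u, hu⟩ := (θ_bijective f G _).2 (g ≫ (ρ f ((E f).obj F)).inv)
  have h2 : Q.map (ηC f G) ≫ (ρ f ((E f).obj G)).inv ≫ Φ f hf G F hF u = w := by
    have : Q.map (ηC f G) ≫ (ρ f ((E f).obj G)).inv ≫ Φ f hf G F hF u =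
        θ f G _ u ≫ (ρ f ((E f).obj F)).hom ≫ δ f hf F hF := by
      simp only [θ, Φ, Category.assoc]
    rw [this, hu, Category.assoc, Iso.inv_hom_id_assoc]
    exact hg.symm
  set v' : Q.obj ((Rc' f).obj ((E f).obj G)) ⟶ (Q.obj F)⟦(1 : ℤ)⟧ :=
    (ρ f ((E f).obj G)).inv ≫ (v - Φ f hf G F hF u) with hv'
  have h3 : (T f hf G hG).mor₂ ≫ v' = 0 := by
    show Q.map (ηC f G) ≫ v' = 0
    rw [hv', Preadditive.comp_sub, Preadditive.comp_sub, h2, ← hw, sub_self]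
  obtain ⟨y, hy⟩ := Triangle.yoneda_exact₃ _ (T_dist f hf G hG) v' h3
  change (Q.obj G)⟦(1 : ℤ)⟧ ⟶ (Q.obj F)⟦(1 : ℤ)⟧ at y
  change v' = δ f hf G hG ≫ y at hy
  obtain ⟨a, ha0⟩ := (shiftFunctor (Dual.D C) (1 : ℤ)).map_surjective
    (X := Q.obj G) (Y := Q.obj F) y
  obtain ⟨a₀, ha₀⟩ := exists_Q_map_eq G F a
  refine ⟨u + Q.map ((E f).map a₀), ?_⟩
  rw [Φ_add, Φ_Q_map f hf G F hG hF, ha₀, ha0]
  have h4 : (ρ f ((E f).obj G)).hom ≫ v' = v - Φ f hf G F hF u := by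
    rw [hv', Iso.hom_inv_id_assoc]
  have h5 : (ρ f ((E f).obj G)).hom ≫ δ f hf G hG ≫ y = v - Φ f hf G F hF u := by
    rw [← h4, hy]
  rw [h5]
  abel

include hG in
theorem Φ_bijective [G.IsKProjective] : Function.Bijective (Φ f hf G F hF) :=
  ⟨Φ_injective f hf G F hG hF, Φ_surjective f hf G F hG hF⟩

end Key

end Helper5.Shriek.Hyp
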