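import Mathlib
import Groth.Prelude.Def_DDual2
import Groth.Agent.Lib.Helper5.Shriek.HypTri
import Groth.Agent.Lib.Helper5.Shriek.FLI
import Groth.Agent.Lib.Helper5.Shriek.RAdj
import Groth.Agent.Lib.Helper5.Shriek.BCGen
import Groth.Agent.Lib.Helper5.Shriek.BCCmp

/-!
# Duality for a hypersurface: `RHom_C(C/(f), N) ≅ N ⊗^L C/(f) [-1]`
-/

set_option autoImplicit false
universe u
open CategoryTheory Limits Pretriangulated

attribute [local instance] HasDerivedCategory.standard

namespace Helper5.Shriek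

open Groth.Agent.Helper5.FlatBC Helper5.FG DerivedCategory Groth.Agent.Helper3.AdjHtpyPlus
  Groth.Agent.Lib.Helper5.KProj Groth.Agent.Lib.Helper5.DTenLib Groth.Agent.Lib.Helper5.KFlat

/-- `Good π c`: every right adjoint of restriction along `π` is derived base change along `π`
shifted by `-c`, objectwise. -/
def Good {C D : Type u} [CommRing C] [CommRing D] (π : C →+* D) (c : ℤ) : Prop :=
  ∀ (Rπ : Dual.D C ⥤ Dual.D D) (_ : DRing.restrictD π ⊣ Rπ) (N : Dual.D C),
    Nonempty (Rπ.obj N ≅ ((DRing.LBaseChange π).obj N)⟦-c⟧)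

section Formal

variable {C D E : Type u} [CommRing C] [CommRing D] [CommRing E]

theorem Good.comp {π : C →+* D} {π' : D →+* E} {c c' : ℤ} (h : Good π c) (h' : Good π' c') :
    Good (π'.comp π) (c + c') := by
  intro R adj N
  let e1 : R ≅ RCoext π ⋙ RCoext π' := rightAdjCompIso π π' (rAdj π) (rAdj π') adj
  obtain ⟨a⟩ := h (RCoext π) (rAdj π) N
  obtain ⟨b⟩ := h' (RCoext π') (rAdj π') ((DRing.LBaseChange π).obj N)
  refine ⟨e1.app N ≪≫ (RCoext π').mapIso a ≪≫ rightAdjShiftIso π' (rAdj π') _ (-c) ≪≫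
    (shiftFunctor (Dual.D E) (-c)).mapIso (b ≪≫ (shiftFunctor (Dual.D E) (-c')).mapIso
      ((lbcCompIso π π').symm.app N)) ≪≫ ?_⟩
  exact (shiftFunctorAdd' (Dual.D E) (-c') (-c) (-(c + c')) (by ring)).symm.app _

theorem Good.congr {π π' : C →+* D} {c c' : ℤ} (h : Good π c) (hπ : π = π') (hc : c = c') :
    Good π' c' := by
  subst hπ hc
  exact h

theorem good_of_ringEquiv (e : C ≃+* D) : Good e.toRingHom 0 := by
  intro R adj N
  let Eq := restrictDEquiv e
  have adjE : DRing.restrictD e.symm.toRingHom ⊣ DRing.restrictD e.toRingHom := Eq.toAdjunction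
  have adjE' : DRing.restrictD e.toRingHom ⊣ DRing.restrictD e.symm.toRingHom :=
    Eq.symm.toAdjunction
  let e1 : R ≅ DRing.restrictD e.symm.toRingHom := adj.rightAdjointUniq adjE'
  let e2 : DRing.LBaseChange e.toRingHom ≅ DRing.restrictD e.symm.toRingHom :=
    (myAdj e.toRingHom).leftAdjointUniq adjE
  exact ⟨e1.app N ≪≫ e2.symm.app N ≪≫ (shiftFunctorZero' (Dual.D D) (-0) (by ring)).symm.app _⟩

end Formal

namespace Hyp

variable {C : Type u} [CommRing C] (f : C) (hf : ∀ x : C, f * x = 0 → x = 0)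

/-- the module `C` in a single degree -/
noncomputable abbrev Gj (C : Type u) [CommRing C] (j : ℤ) : DRing.Cx C :=
  (HomologicalComplex.single (ModuleCat.{u} C) (ComplexShape.up ℤ) j).obj (ModuleCat.of C C)

lemma flat_Gj (j : ℤ) : DRing.TermwiseFlat (Gj C j) := fun i => by
  by_cases h : i = j
  · subst h
    exact flat_of_iso (HomologicalComplex.singleObjXSelf (ComplexShape.up ℤ) i
      (ModuleCat.of C C)).symm (inferInstanceAs (Module.Flat C C))
  · exact flat_of_isZero (HomologicalComplex.isZero_single_obj_X (ComplexShape.up ℤ) j _ i h)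

instance kproj_Gj (j : ℤ) : (Gj C j).IsKProjective := by
  haveI : ∀ n, Projective ((Gj C j).X n) := fun n => by
    by_cases h : n = j
    · subst h
      haveI : Projective (ModuleCat.of C C) :=
        (IsProjective.iff_projective (R := C) (P := C)).1 inferInstance
      exact Projective.of_iso (HomologicalComplex.singleObjXSelf (ComplexShape.up ℤ) n
        (ModuleCat.of C C)).symm inferInstance
    · have hz := HomologicalComplex.isZero_single_obj_X (ComplexShape.up ℤ) j
        (ModuleCat.of C C) n h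
      exact Projective.of_iso hz.isoZero.symm inferInstance
  exact CochainComplex.isKProjective_of_projective _ j

/-- `C/(f) ⊗ C ≅ C/(f)` -/
noncomputable def unitModIso :
    (ModuleCat.extendScalars.{u, u, u} (π f)).obj (ModuleCat.of C C) ≅
      ModuleCat.of (Cb f) (Cb f) :=
  ((eqv (Cb f) (ModuleCat.of C C)).symm ≪≫ₗ
    TensorProduct.AlgebraTensorModule.rid C (Cb f) (Cb f)).toModuleIso

/-- the test objects -/
noncomputable def wIso (j : ℤ) :
    Q.obj ((E f).obj (Gj C (-j))) ≅ (Dual.inD (Cb f) (Cb f))⟦j⟧ :=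
  Q.mapIso ((HomologicalComplex.singleMapHomologicalComplex
      (ModuleCat.extendScalars.{u, u, u} (π f)) (ComplexShape.up ℤ) (-j)).app (ModuleCat.of C C) ≪≫
    (HomologicalComplex.single _ _ (-j)).mapIso (unitModIso f)) ≪≫
  ((DerivedCategory.singleFunctorIsoCompQ (ModuleCat.{u} (Cb f)) (-j)).symm.app _) ≪≫
  ((DerivedCategory.singleFunctors (ModuleCat.{u} (Cb f))).shiftIso j (-j) 0 (by omega)).symm.app _

include hf in
/-- **Duality for a hypersurface.** -/
theorem good_quot : Good (π f) 1 := by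
  intro R adj N
  let K := Q.objPreimage N
  let F := res K
  have hFflat : DRing.TermwiseFlat F := fun n => flat_res K n
  have hKF : DRing.IsKFlat C F := isKFlat_res K
  let iN : Q.obj F ≅ N := asIso (Q.map (resMap K)) ≪≫ Q.objObjPreimageIso N
  let L : Dual.D (Cb f) := Q.obj ((E f).obj F)
  let iL : (DRing.LBaseChange (π f)).obj (Q.obj F) ≅ L := lbcIsoFlat (π f) F hKF
  let N1 : Dual.D C := (Q.obj F)⟦(1 : ℤ)⟧
  let α : L ⟶ R.obj N1 := adj.homEquiv _ _ ((ρ f ((E f).obj F)).hom ≫ δ f hf F hFflat)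
  have hα : IsIso α := by
    apply isIso_of_unit_shift_bijective
    intro j
    let G := Gj C (-j)
    have key := Φ_bijective f hf G F (flat_Gj (-j)) hFflat
    let w := wIso f j
    have e : (fun k : (Dual.inD (Cb f) (Cb f))⟦j⟧ ⟶ L => k ≫ α) =
        (fun x => w.inv ≫ x) ∘ (adj.homEquiv _ _) ∘ (Φ f hf G F hFflat) ∘
          (fun k => w.hom ≫ k) := by
      funext k
      simp only [Function.comp_apply]
      have h1 : adj.homEquiv _ _ (Φ f hf G F hFflat (w.hom ≫ k)) = (w.hom ≫ k) ≫ α := by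
        rw [← Adjunction.homEquiv_naturality_left]
        rfl
      rw [h1, Category.assoc, Iso.inv_hom_id_assoc]
    rw [e]
    exact (bijective_precomp_iso' w.symm _).comp ((adj.homEquiv _ _).bijective.comp
      (key.comp (bijective_precomp_iso' w _)))
  let iα : L ≅ R.obj N1 := asIso α
  let s : R.obj (Q.obj F) ≅ ((R.obj (Q.obj F))⟦(1 : ℤ)⟧)⟦(-1 : ℤ)⟧ :=
    (shiftEquiv (Dual.D (Cb f)) (1 : ℤ)).unitIso.app _
  exact ⟨R.mapIso iN.symm ≪≫ s ≪≫ (shiftFunctor (Dual.D (Cb f)) (-1 : ℤ)).mapIso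
    ((rightAdjShiftIso (π f) adj (Q.obj F) 1).symm ≪≫ iα.symm ≪≫ iL.symm ≪≫
      (DRing.LBaseChange (π f)).mapIso iN)⟩

end Hyp

/-- duality for any surjection whose kernel is generated by a nonzerodivisor -/
theorem good_of_ker_span {C D : Type u} [CommRing C] [CommRing D] (p : C →+* D)
    (hp : Function.Surjective p) (f : C) (hker : RingHom.ker p = Ideal.span {f})
    (hf : ∀ x : C, f * x = 0 → x = 0) : Good p 1 := by
  let e : Hyp.Cb f ≃+* D :=
    (Ideal.quotEquivOfEq hker.symm).trans (RingHom.quotientKerEquivOfSurjective hp)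
  have h1 : Good (Hyp.π f) 1 := Hyp.good_quot f hf
  have h2 : Good e.toRingHom 0 := good_of_ringEquiv e
  refine (h1.comp h2).congr ?_ (by ring)
  refine RingHom.ext fun x => ?_
  rfl

end Helper5.Shriek
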