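import Mathlib
import Groth.Prelude.Def_DDual2
import Groth.Agent.Lib.Helper5.FG.Loc

/-!
# Division data for a retract `B → P → B` and the induced split exact sequences of modules
-/

set_option autoImplicit false
universe u
open CategoryTheory Limits TensorProduct

namespace Helper5.Shriek

open Groth.Agent.Helper5.FlatBC Helper5.FG
open scoped ChangeOfRings

/-- A retraction `χ : P → B` of a `B`-algebra `P` whose kernel is generated by a single element
`t` admitting a `B`-linear division operator. -/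
structure DivData (B P : Type u) [CommRing B] [CommRing P] [Algebra B P] where
  χ : P →+* B
  t : P
  d : P →ₗ[B] P
  χ_alg : ∀ b, χ (algebraMap B P b) = b
  χ_t : χ t = 0
  d_mul : ∀ p, d (t * p) = p
  mul_d : ∀ p, t * d p + algebraMap B P (χ p) = p

variable {B P : Type u} [CommRing B] [CommRing P] [Algebra B P] (D : DivData B P)

namespace DivData

lemma comp_eq : D.χ.comp (algebraMap B P) = RingHom.id B := by
  ext b; exact D.χ_alg b

/-- restriction along the retraction -/
noncomputable abbrev Rχ : ModuleCat.{u} B ⥤ ModuleCat.{u} P := ModuleCat.restrictScalars D.χ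

/-- restriction along the structure map -/
noncomputable abbrev Rι : ModuleCat.{u} P ⥤ ModuleCat.{u} B :=
  ModuleCat.restrictScalars (algebraMap B P)

/-- the identity, as an isomorphism `𝟭 ≅ Rχ ⋙ Rι` -/
noncomputable def κ : 𝟭 (ModuleCat.{u} B) ≅ D.Rχ ⋙ Rι (B := B) (P := P) :=
  (ModuleCat.restrictScalarsId' (D.χ.comp (algebraMap B P)) D.comp_eq).symm ≪≫
    ModuleCat.restrictScalarsComp' (algebraMap B P) D.χ _ rfl

lemma κ_hom_apply (M : ModuleCat.{u} B) (m : M) : (D.κ.hom.app M).hom m = m := rfl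

lemma κ_inv_apply (M : ModuleCat.{u} B) (m : M) : (D.κ.inv.app M).hom m = m := rfl

/-- multiplication by `t` on the extended module -/
noncomputable def tE : Ef (R := B) P ⟶ Ef (R := B) P where
  app M := D.t • 𝟙 _
  naturality M M' f := by simp [Linear.smul_comp, Linear.comp_smul]

/-- the projection `P ⊗_B M → M`, `p ⊗ m ↦ χ(p) m` -/
noncomputable def πE : Ef (R := B) P ⟶ D.Rχ :=
  (Functor.leftUnitor _).inv ≫ Functor.whiskerRight D.κ.hom (Ef (R := B) P) ≫
    (Functor.associator _ _ _).hom ≫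
    Functor.whiskerLeft D.Rχ (ModuleCat.extendRestrictScalarsAdj (algebraMap B P)).counit ≫
    (Functor.rightUnitor _).hom

set_option backward.isDefEq.respectTransparency false in
lemma tE_apply (M : ModuleCat.{u} B) (p : P) (m : M) :
    (D.tE.app M).hom (p ⊗ₜ[B, algebraMap B P] m) = (D.t * p) ⊗ₜ[B, algebraMap B P] m := rfl

set_option backward.isDefEq.respectTransparency false in
lemma πE_apply (M : ModuleCat.{u} B) (p : P) (m : M) :
    (D.πE.app M).hom (p ⊗ₜ[B, algebraMap B P] m) = (D.χ p • m : M) := by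
  let x : (Ef (R := B) P).obj M := (1 : P) ⊗ₜ[B, algebraMap B P] m
  have h : (p ⊗ₜ[B, algebraMap B P] m : (Ef (R := B) P).obj M) = p • x := by
    show _ = p • ((1 : P) ⊗ₜ[B, algebraMap B P] m : (ModuleCat.extendScalars (algebraMap B P)).obj M)
    rw [ModuleCat.ExtendScalars.smul_tmul, mul_one]
  rw [h, map_smul]
  have h1 : (D.πE.app M).hom x = (m : M) := by
    simp only [πE, NatTrans.comp_app, Functor.leftUnitor_inv_app, Functor.whiskerRight_app,
      Functor.associator_hom_app, Functor.whiskerLeft_app, Functor.rightUnitor_hom_app,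
      Category.id_comp, Category.comp_id]
    exact ModuleCat.extendRestrictScalarsAdj_counit_app_apply_one_tmul (algebraMap B P) (D.Rχ.obj M) m
  rw [h1]
  rfl

/-- the unit `M → P ⊗_B M` -/
noncomputable abbrev ηn : 𝟭 (ModuleCat.{u} B) ⟶ Eres (A := B) P := etaRes P

/-- multiplication by `t`, `B`-linearly -/
noncomputable def τn : Eres (A := B) P ⟶ Eres (A := B) P := Functor.whiskerRight D.tE _

/-- the projection, `B`-linearly -/
noncomputable def πn : Eres (A := B) P ⟶ 𝟭 (ModuleCat.{u} B) :=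
  Functor.whiskerRight D.πE (Rι (B := B) (P := P)) ≫ D.κ.inv

lemma eqvA_tmul (M : ModuleCat.{u} B) (p : P) (m : M) :
    eqvA P M (p ⊗ₜ m) = p ⊗ₜ[B, algebraMap B P] m := rfl

lemma Eres_hom_ext {M X : ModuleCat.{u} B} {f g : (Eres (A := B) P).obj M ⟶ X}
    (h : ∀ (p : P) (m : M), f.hom (eqvA P M (p ⊗ₜ m)) = g.hom (eqvA P M (p ⊗ₜ m))) : f = g := by
  ext x
  obtain ⟨y, rfl⟩ := (eqvA P M).surjective x
  induction y using TensorProduct.induction_on with
  | zero => simp
  | tmul p m => exact h p m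
  | add a b ha hb => simp only [map_add, ha, hb]

/-- division by `t`, as a linear map -/
noncomputable def ρLin (M : ModuleCat.{u} B) :
    (Eres (A := B) P).obj M →ₗ[B] (Eres (A := B) P).obj M :=
  (eqvA P M).toLinearMap ∘ₗ (D.d.rTensor M) ∘ₗ (eqvA P M).symm.toLinearMap

lemma ρLin_apply (M : ModuleCat.{u} B) (p : P) (m : M) :
    D.ρLin M (eqvA P M (p ⊗ₜ m)) = eqvA P M (D.d p ⊗ₜ m) := by
  show (eqvA P M) ((D.d.rTensor M) ((eqvA P M).symm (eqvA P M (p ⊗ₜ m)))) = _
  rw [LinearEquiv.symm_apply_apply, LinearMap.rTensor_tmul]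

lemma Eres_map_apply {N N' : ModuleCat.{u} B} (h : N ⟶ N') (q : P) (n : N) :
    ((Eres (A := B) P).map h).hom (eqvA P N (q ⊗ₜ n)) = eqvA P N' (q ⊗ₜ h.hom n) := rfl

/-- division by `t` -/
noncomputable def ρn : Eres (A := B) P ⟶ Eres (A := B) P where
  app M := ModuleCat.ofHom (X := ((Eres (A := B) P).obj M : ModuleCat.{u} B))
    (Y := ((Eres (A := B) P).obj M : ModuleCat.{u} B)) (D.ρLin M)
  naturality M M' f := by
    apply Eres_hom_ext
    intro p m
    exact ((congrArg (D.ρLin M') (Eres_map_apply f p m)).trans (D.ρLin_apply M' p (f.hom m))).trans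
      ((congrArg ((Eres (A := B) P).map f).hom (D.ρLin_apply M p m)).trans
        (Eres_map_apply f (D.d p) m)).symm

lemma τn_apply (M : ModuleCat.{u} B) (p : P) (m : M) :
    (D.τn.app M).hom (eqvA P M (p ⊗ₜ m)) = eqvA P M ((D.t * p) ⊗ₜ m) :=
  D.tE_apply M p m

lemma ρn_apply (M : ModuleCat.{u} B) (p : P) (m : M) :
    (D.ρn.app M).hom (eqvA P M (p ⊗ₜ m)) = eqvA P M (D.d p ⊗ₜ m) :=
  D.ρLin_apply M p m

lemma πn_apply (M : ModuleCat.{u} B) (p : P) (m : M) :
    (D.πn.app M).hom (eqvA P M (p ⊗ₜ m)) = D.χ p • m :=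
  D.πE_apply M p m

lemma ηn_apply (M : ModuleCat.{u} B) (m : M) :
    ((ηn (B := B) (P := P)).app M).hom m = eqvA P M (1 ⊗ₜ m) :=
  etaLin_apply P M m

lemma τρ (M : ModuleCat.{u} B) : D.τn.app M ≫ D.ρn.app M = 𝟙 _ := by
  apply Eres_hom_ext
  intro p m
  show (D.ρn.app M).hom ((D.τn.app M).hom (eqvA P M (p ⊗ₜ m))) = eqvA P M (p ⊗ₜ m)
  rw [τn_apply, ρn_apply, D.d_mul]

lemma ηπ (M : ModuleCat.{u} B) : (ηn (B := B) (P := P)).app M ≫ D.πn.app M = 𝟙 _ := by
  ext m
  show (D.πn.app M).hom (((ηn (B := B) (P := P)).app M).hom m) = m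
  rw [ηn_apply, πn_apply, map_one, one_smul]

lemma τπ (M : ModuleCat.{u} B) : D.τn.app M ≫ D.πn.app M = 0 := by
  apply Eres_hom_ext
  intro p m
  show (D.πn.app M).hom ((D.τn.app M).hom (eqvA P M (p ⊗ₜ m))) = 0
  rw [τn_apply, πn_apply, map_mul, D.χ_t, zero_mul, zero_smul]

lemma dec (M : ModuleCat.{u} B) :
    D.ρn.app M ≫ D.τn.app M + D.πn.app M ≫ (ηn (B := B) (P := P)).app M = 𝟙 _ := by
  apply Eres_hom_ext
  intro p m
  show (D.τn.app M).hom ((D.ρn.app M).hom (eqvA P M (p ⊗ₜ m))) +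
    ((ηn (B := B) (P := P)).app M).hom ((D.πn.app M).hom (eqvA P M (p ⊗ₜ m))) = eqvA P M (p ⊗ₜ m)
  rw [ρn_apply, τn_apply, πn_apply, ηn_apply, ← map_add]
  congr 1
  rw [← TensorProduct.smul_tmul, ← TensorProduct.add_tmul, Algebra.smul_def, mul_one, D.mul_d]

lemma tπ_apply (M : ModuleCat.{u} B) (x : (Ef (R := B) P).obj M) :
    (D.πE.app M).hom ((D.tE.app M).hom x) = 0 :=
  congrArg (fun f => f.hom x) (D.τπ M)

lemma ρt_apply (M : ModuleCat.{u} B) (x : (Ef (R := B) P).obj M) :
    (D.ρn.app M).hom ((D.tE.app M).hom x) = x :=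
  congrArg (fun f => f.hom x) (D.τρ M)

lemma ηπ_apply (M : ModuleCat.{u} B) (m : M) :
    (D.πE.app M).hom (((ηn (B := B) (P := P)).app M).hom m) = m :=
  congrArg (fun f => f.hom m) (D.ηπ M)

lemma dec_apply (M : ModuleCat.{u} B) (x : (Eres (A := B) P).obj M) :
    (D.τn.app M).hom ((D.ρn.app M).hom x) +
      ((ηn (B := B) (P := P)).app M).hom ((D.πn.app M).hom x) = x :=
  congrArg (fun f => f.hom x) (D.dec M)

/-- the short complex `0 → P ⊗_B M → P ⊗_B M → M → 0` of `P`-modules -/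
noncomputable def sc (M : ModuleCat.{u} B) : ShortComplex (ModuleCat.{u} P) :=
  ShortComplex.mk (D.tE.app M) (D.πE.app M) (by
    ext x
    exact D.tπ_apply M _)

lemma sc_shortExact (M : ModuleCat.{u} B) : (D.sc M).ShortExact := by
  refine ShortComplex.ShortExact.mk' ?_ ?_ ?_
  · rw [ShortComplex.moduleCat_exact_iff]
    intro x hx
    refine ⟨(D.ρn.app M).hom x, ?_⟩
    have h := D.dec_apply M x
    have hx' : (D.πn.app M).hom x = 0 := hx
    rw [hx', map_zero, add_zero] at h
    exact h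
  · rw [ModuleCat.mono_iff_injective]
    intro x y h
    have h' := congrArg (D.ρn.app M).hom h
    exact ((D.ρt_apply M x).symm.trans h').trans (D.ρt_apply M y)
  · rw [ModuleCat.epi_iff_surjective]
    intro m
    exact ⟨((ηn (B := B) (P := P)).app M).hom m, D.ηπ_apply M m⟩

end DivData

end Helper5.Shriek
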