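import Mathlib
import Groth.Prelude.Def_DDual2
import Groth.Agent.Lib.Helper5.FG.Base
import Groth.Agent.Lib.Helper5.Shriek.OneMod

/-!
# Division data: the split exact sequences of complexes and the splitting in `D(B)`
-/

set_option autoImplicit false
universe u
open CategoryTheory Limits

attribute [local instance] HasDerivedCategory.standard

namespace Helper5.Shriek

open Groth.Agent.Helper5.FlatBC Helper5.FG DerivedCategory Groth.Agent.Helper3.BCDer
  Groth.Agent.Helper3.AdjHtpyPlus

variable {B P : Type u} [CommRing B] [CommRing P] [Algebra B P] (D : DivData B P)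

namespace DivData

/-- termwise restriction along the retraction -/
noncomputable abbrev Rχc : DRing.Cx B ⥤ DRing.Cx P :=
  (D.Rχ).mapHomologicalComplex (ComplexShape.up ℤ)

/-- the projection on complexes -/
noncomputable abbrev πC : Ec (R := B) P ⟶ D.Rχc :=
  NatTrans.mapHomologicalComplex D.πE (ComplexShape.up ℤ)

/-- the short complex `0 → P ⊗ K → P ⊗ K → K → 0` of complexes of `P`-modules -/
noncomputable def scC (K : DRing.Cx B) : ShortComplex (DRing.Cx P) :=
  ShortComplex.mk (D.t • 𝟙 ((Ec (R := B) P).obj K)) (D.πC.app K) (by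
    ext i : 1
    exact (D.sc (K.X i)).zero)

lemma scC_shortExact (K : DRing.Cx B) : (D.scC K).ShortExact := by
  apply HomologicalComplex.shortExact_of_degreewise_shortExact
  intro i
  exact D.sc_shortExact (K.X i)

/-- functoriality of the short complex -/
noncomputable def scCMap {K L : DRing.Cx B} (f : K ⟶ L) : D.scC K ⟶ D.scC L where
  τ₁ := (Ec (R := B) P).map f
  τ₂ := (Ec (R := B) P).map f
  τ₃ := D.Rχc.map f
  comm₁₂ := by
    have h1 : (Ec (R := B) P).map f ≫ (D.t • 𝟙 ((Ec (R := B) P).obj L)) =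
        D.t • (Ec (R := B) P).map f := by
      rw [Linear.comp_smul, Category.comp_id]
    have h2 : (D.t • 𝟙 ((Ec (R := B) P).obj K)) ≫ (Ec (R := B) P).map f =
        D.t • (Ec (R := B) P).map f := by
      rw [Linear.smul_comp, Category.id_comp]
    exact h1.trans h2.symm
  comm₂₃ := D.πC.naturality f

/-- the underlying complex of `B`-modules of `P ⊗ K` -/
noncomputable abbrev W (K : DRing.Cx B) : DRing.Cx B := (Rc (A := B) P).obj ((Ec (R := B) P).obj K)

/-- multiplication by `t` -/
noncomputable def τC (K : DRing.Cx B) : W (P := P) K ⟶ W (P := P) K :=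
  (Rc (A := B) P).map (D.t • 𝟙 ((Ec (R := B) P).obj K))

/-- division by `t` -/
noncomputable def ρC (K : DRing.Cx B) : W (P := P) K ⟶ W (P := P) K where
  f i := D.ρn.app (K.X i)
  comm' i j _ := (D.ρn.naturality (K.d i j)).symm

/-- the projection -/
noncomputable def πC' (K : DRing.Cx B) : W (P := P) K ⟶ K where
  f i := D.πn.app (K.X i)
  comm' i j _ := (D.πn.naturality (K.d i j)).symm

/-- the unit -/
noncomputable abbrev ηC (K : DRing.Cx B) : K ⟶ W (P := P) K :=
  unitC (ModuleCat.extendRestrictScalarsAdj (algebraMap B P)) (ComplexShape.up ℤ) K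

lemma τC_f (K : DRing.Cx B) (i : ℤ) : (D.τC K).f i = D.τn.app (K.X i) := rfl

lemma τρC (K : DRing.Cx B) : D.τC K ≫ D.ρC K = 𝟙 _ := by
  ext i : 1
  exact D.τρ (K.X i)

lemma ηπC (K : DRing.Cx B) : ηC (P := P) K ≫ D.πC' K = 𝟙 _ := by
  ext i : 1
  exact D.ηπ (K.X i)

lemma τπC (K : DRing.Cx B) : D.τC K ≫ D.πC' K = 0 := by
  ext i : 1
  exact D.τπ (K.X i)

lemma decC (K : DRing.Cx B) : D.ρC K ≫ D.τC K + D.πC' K ≫ ηC (P := P) K = 𝟙 _ := by
  ext i : 1
  exact D.dec (K.X i)

end DivData

end Helper5.Shriek
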