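import Mathlib
import Groth.Prelude.Def_DDual2
import Groth.Agent.Lib.Helper5.FG.Base
import Groth.Agent.Lib.Helper5.Shriek.OneCx

/-!
# Division data: the splitting in `D(B)`
-/

set_option autoImplicit false
universe u
open CategoryTheory Limits

attribute [local instance] HasDerivedCategory.standard

namespace Helper5.Shriek

open Groth.Agent.Helper5.FlatBC Helper5.FG DerivedCategory Groth.Agent.Helper3.BCDer
  Groth.Agent.Helper3.AdjHtpyPlus

variable {B P : Type u} [CommRing B] [CommRing P] [Algebra B P] [Module.Flat B P]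
  (D : DivData B P)

namespace DivData

/-- derived restriction along the structure map -/
noncomputable abbrev U : Dual.D P ⥤ Dual.D B := DRing.restrictD (algebraMap B P)

/-- the comparison `Q (P ⊗ K) ≅ G (Q K)` -/
noncomputable abbrev φ (K : DRing.Cx B) :
    Q.obj ((Ec (R := B) P).obj K) ≅ (G (A := B) P).obj (Q.obj K) :=
  (CatCommSq.iso (Ec (R := B) P) (Q (C := ModuleCat.{u} B)) (Q (C := ModuleCat.{u} P))
    (G (A := B) P)).app K

/-- the comparison `Q (res L) ≅ U (Q L)` -/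
noncomputable abbrev ψ (L : DRing.Cx P) :
    Q.obj ((Rc (A := B) P).obj L) ≅ (U (B := B) (P := P)).obj (Q.obj L) :=
  (CatCommSq.iso (Rc (A := B) P) (Q (C := ModuleCat.{u} P)) (Q (C := ModuleCat.{u} B))
    (U (B := B) (P := P))).app L

lemma U_map_Q_map {L L' : DRing.Cx P} (f : L ⟶ L') :
    (U (B := B) (P := P)).map (Q.map f) =
      (ψ (B := B) L).inv ≫ Q.map ((Rc (A := B) P).map f) ≫ (ψ (B := B) L').hom := by
  have h := (CatCommSq.iso (Rc (A := B) P) (Q (C := ModuleCat.{u} P)) (Q (C := ModuleCat.{u} B))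
    (U (B := B) (P := P))).hom.naturality f
  rw [Iso.eq_inv_comp]
  exact h.symm

/-- the object `U (Q (P ⊗ K))` -/
noncomputable abbrev V (K : DRing.Cx B) : Dual.D B :=
  (U (B := B) (P := P)).obj (Q.obj ((Ec (R := B) P).obj K))

/-- multiplication by `t` in `D(B)` -/
noncomputable def τD (K : DRing.Cx B) : V (P := P) K ⟶ V (P := P) K :=
  (U (B := B) (P := P)).map (D.t • 𝟙 (Q.obj ((Ec (R := B) P).obj K)))

/-- the unit in `D(B)` -/
noncomputable def ηD (K : DRing.Cx B) : Q.obj K ⟶ V (P := P) K :=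
  (adjD (A := B) P).unit.app (Q.obj K) ≫ (U (B := B) (P := P)).map (φ (P := P) K).inv

/-- division by `t` in `D(B)` -/
noncomputable def ρD (K : DRing.Cx B) : V (P := P) K ⟶ V (P := P) K :=
  (ψ (B := B) ((Ec (R := B) P).obj K)).inv ≫ Q.map (D.ρC K) ≫ (ψ (B := B) ((Ec (R := B) P).obj K)).hom

/-- the projection in `D(B)` -/
noncomputable def πD (K : DRing.Cx B) : V (P := P) K ⟶ Q.obj K :=
  (ψ (B := B) ((Ec (R := B) P).obj K)).inv ≫ Q.map (D.πC' K)

lemma τD_eq (K : DRing.Cx B) : D.τD K =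
    (ψ (B := B) ((Ec (R := B) P).obj K)).inv ≫ Q.map (D.τC K) ≫
      (ψ (B := B) ((Ec (R := B) P).obj K)).hom := by
  have h : D.t • 𝟙 (Q.obj ((Ec (R := B) P).obj K)) =
      Q.map (D.t • 𝟙 ((Ec (R := B) P).obj K)) := by
    rw [Functor.map_smul, CategoryTheory.Functor.map_id]
  rw [τD, h, U_map_Q_map]
  rfl

lemma ηD_eq (K : DRing.Cx B) : ηD (P := P) K =
    Q.map (ηC (P := P) K) ≫ (ψ (B := B) ((Ec (R := B) P).obj K)).hom := by
  have h := (adjC (A := B) P).localization_unit_app (Q (C := ModuleCat.{u} B))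
    (HomologicalComplex.quasiIso (ModuleCat.{u} B) (ComplexShape.up ℤ))
    (Q (C := ModuleCat.{u} P))
    (HomologicalComplex.quasiIso (ModuleCat.{u} P) (ComplexShape.up ℤ))
    (G (A := B) P) (DRing.restrictD (algebraMap B P)) K
  unfold ηD adjD
  rw [h]
  simp only [Category.assoc, ← Functor.map_comp]
  rw [show (CatCommSq.iso (Ec (R := B) P) (Q (C := ModuleCat.{u} B)) (Q (C := ModuleCat.{u} P))
    (G (A := B) P)).hom.app K ≫ (φ (P := P) K).inv = 𝟙 _ from (φ (P := P) K).hom_inv_id]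
  erw [CategoryTheory.Functor.map_id, Category.comp_id]
  rfl

lemma τρD (K : DRing.Cx B) : D.τD K ≫ D.ρD K = 𝟙 _ := by
  rw [τD_eq, ρD]
  simp only [Category.assoc, Iso.hom_inv_id_assoc]
  rw [← Functor.map_comp_assoc, τρC, CategoryTheory.Functor.map_id, Category.id_comp,
    Iso.inv_hom_id]

lemma ηπD (K : DRing.Cx B) : ηD (P := P) K ≫ D.πD K = 𝟙 _ := by
  rw [ηD_eq, πD]
  simp only [Category.assoc, Iso.hom_inv_id_assoc]
  rw [← Functor.map_comp, ηπC, CategoryTheory.Functor.map_id]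

lemma τπD (K : DRing.Cx B) : D.τD K ≫ D.πD K = 0 := by
  rw [τD_eq, πD]
  simp only [Category.assoc, Iso.hom_inv_id_assoc]
  rw [← Functor.map_comp, τπC, Functor.map_zero, comp_zero]

lemma decD (K : DRing.Cx B) : D.ρD K ≫ D.τD K + D.πD K ≫ ηD (P := P) K = 𝟙 _ := by
  rw [τD_eq, ρD, ηD_eq, πD]
  simp only [Category.assoc, Iso.hom_inv_id_assoc]
  rw [← Functor.map_comp_assoc, ← Functor.map_comp_assoc, ← Preadditive.comp_add,
    ← Preadditive.add_comp, ← Functor.map_add, decC, CategoryTheory.Functor.map_id,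
    Category.id_comp, Iso.inv_hom_id]

end DivData

end Helper5.Shriek
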