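import Mathlib
import Groth.Prelude.Def_DDual2
import Groth.Agent.Lib.Helper5.Shriek.OneD

/-!
# Division data: the triangle `G S → G S → res_χ S →` and the key bijection
-/

set_option autoImplicit false
universe u
open CategoryTheory Limits Pretriangulated

attribute [local instance] HasDerivedCategory.standard

namespace Helper5.Shriek

open Groth.Agent.Helper5.FlatBC Helper5.FG DerivedCategory Groth.Agent.Helper3.BCDer
  Groth.Agent.Helper3.AdjHtpyPlus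

variable {B P : Type u} [CommRing B] [CommRing P] [Algebra B P] [Module.Flat B P]
  (D : DivData B P)

namespace DivData

/-- the object `Q (P ⊗ K)` -/
noncomputable abbrev GQ (K : DRing.Cx B) : Dual.D P := Q.obj ((Ec (R := B) P).obj K)

/-- multiplication by `t` on `Q (P ⊗ K)` -/
noncomputable abbrev tQ (K : DRing.Cx B) : GQ (P := P) K ⟶ GQ (P := P) K := D.t • 𝟙 _

/-- the connecting morphism -/
noncomputable def δ (K : DRing.Cx B) : Q.obj (D.Rχc.obj K) ⟶ (GQ (P := P) K)⟦(1 : ℤ)⟧ :=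
  triangleOfSESδ (D.scC_shortExact K)

/-- the triangle -/
noncomputable def T (K : DRing.Cx B) : Triangle (Dual.D P) :=
  Triangle.mk (D.tQ K) (Q.map (D.πC.app K)) (D.δ K)

lemma T_dist (K : DRing.Cx B) : D.T K ∈ distTriang (Dual.D P) := by
  have h := triangleOfSES_distinguished (D.scC_shortExact K)
  have e : D.tQ K = Q.map (D.scC K).f := by
    show D.t • 𝟙 _ = Q.map (D.t • 𝟙 _)
    rw [Functor.map_smul, CategoryTheory.Functor.map_id]
  unfold T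
  rw [e]
  exact h

lemma δ_nat {K L : DRing.Cx B} (f : K ⟶ L) :
    D.δ K ≫ (Q.map ((Ec (R := B) P).map f))⟦(1 : ℤ)⟧' = Q.map (D.Rχc.map f) ≫ D.δ L :=
  triangleOfSESδ_naturality (D.scC_shortExact K) (D.scC_shortExact L) (D.scCMap f)

/-- the comparison `res_χ (Q K) ≅ Q (res_χ K)` -/
noncomputable abbrev ξ (K : DRing.Cx B) :
    (DRing.restrictD D.χ).obj (Q.obj K) ≅ Q.obj (D.Rχc.obj K) :=
  (D.Rχ.mapDerivedCategoryFactors).app K

lemma ξ_nat {K L : DRing.Cx B} (f : K ⟶ L) :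
    (DRing.restrictD D.χ).map (Q.map f) ≫ (D.ξ L).hom = (D.ξ K).hom ≫ Q.map (D.Rχc.map f) :=
  (D.Rχ.mapDerivedCategoryFactors).hom.naturality f

/-- the map whose bijectivity is the fundamental local isomorphism -/
noncomputable def Λ (S N : DRing.Cx B) (f : Q.obj S ⟶ Q.obj N) :
    (DRing.restrictD D.χ).obj (Q.obj S) ⟶ (GQ (P := P) N)⟦(1 : ℤ)⟧ :=
  (DRing.restrictD D.χ).map f ≫ (D.ξ N).hom ≫ D.δ N

lemma Λ_Q_map {S N : DRing.Cx B} (f : S ⟶ N) :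
    D.Λ S N (Q.map f) = (D.ξ S).hom ≫ D.δ S ≫ (Q.map ((Ec (R := B) P).map f))⟦(1 : ℤ)⟧' := by
  rw [Λ, ← Category.assoc, ξ_nat, Category.assoc, ← δ_nat]

lemma Λ_sub (S N : DRing.Cx B) (f f' : Q.obj S ⟶ Q.obj N) :
    D.Λ S N (f - f') = D.Λ S N f - D.Λ S N f' := by
  simp only [Λ, Functor.map_sub, Preadditive.sub_comp]

/-- the adjoint transpose of a morphism out of `Q (P ⊗ S)` -/
noncomputable def adjQ (S : DRing.Cx B) {M : Dual.D P} (k : GQ (P := P) S ⟶ M) :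
    Q.obj S ⟶ (U (B := B) (P := P)).obj M :=
  ηD (P := P) S ≫ (U (B := B) (P := P)).map k

lemma adjQ_eq (S : DRing.Cx B) {M : Dual.D P} (k : GQ (P := P) S ⟶ M) :
    adjQ S k = (adjD (A := B) P).homEquiv _ _ ((φ (P := P) S).inv ≫ k) := by
  rw [adjQ, ηD, Adjunction.homEquiv_unit, Functor.map_comp, Category.assoc]

lemma adjQ_injective (S : DRing.Cx B) {M : Dual.D P} :
    Function.Injective (adjQ (P := P) S (M := M)) := by
  intro k k' h
  rw [adjQ_eq, adjQ_eq] at h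
  exact (cancel_epi (φ (P := P) S).inv).1 (((adjD (A := B) P).homEquiv _ _).injective h)

lemma adjQ_surjective (S : DRing.Cx B) {M : Dual.D P}
    (w : Q.obj S ⟶ (U (B := B) (P := P)).obj M) : ∃ k, adjQ (P := P) S k = w := by
  refine ⟨(φ (P := P) S).hom ≫ ((adjD (A := B) P).homEquiv _ _).symm w, ?_⟩
  rw [adjQ_eq, Iso.inv_hom_id_assoc, Equiv.apply_symm_apply]

lemma adjQ_comp (S : DRing.Cx B) {M M' : Dual.D P} (k : GQ (P := P) S ⟶ M) (m : M ⟶ M') :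
    adjQ S (k ≫ m) = adjQ S k ≫ (U (B := B) (P := P)).map m := by
  simp [adjQ]

lemma adjQ_add (S : DRing.Cx B) {M : Dual.D P} (k k' : GQ (P := P) S ⟶ M) :
    adjQ S (k + k') = adjQ S k + adjQ S k' := by
  simp [adjQ, Functor.map_add]

lemma adjQ_neg (S : DRing.Cx B) {M : Dual.D P} (k : GQ (P := P) S ⟶ M) :
    adjQ S (-k) = -adjQ S k := by
  simp [adjQ, Functor.map_neg]

lemma adjQ_zero (S : DRing.Cx B) {M : Dual.D P} :
    adjQ S (0 : GQ (P := P) S ⟶ M) = 0 := by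
  simp [adjQ]

lemma adjQ_Q_map {S N : DRing.Cx B} (f : S ⟶ N) :
    adjQ (P := P) S (Q.map ((Ec (R := B) P).map f)) = Q.map f ≫ ηD (P := P) N := by
  rw [adjQ, ηD_eq, ηD_eq, U_map_Q_map]
  simp only [Category.assoc, Iso.hom_inv_id_assoc]
  rw [← Functor.map_comp_assoc, ← Functor.map_comp_assoc]
  rw [← unitC_naturality (ModuleCat.extendRestrictScalarsAdj (algebraMap B P))
    (ComplexShape.up ℤ) f]

lemma eq_zero_of_comp_splitMono (S : DRing.Cx B) {M M' : Dual.D P} (m : M ⟶ M')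
    (r : (U (B := B) (P := P)).obj M' ⟶ (U (B := B) (P := P)).obj M)
    (hr : (U (B := B) (P := P)).map m ≫ r = 𝟙 _) (k : GQ (P := P) S ⟶ M) (hk : k ≫ m = 0) :
    k = 0 := by
  apply adjQ_injective S
  rw [adjQ_zero]
  have h : adjQ S k ≫ (U (B := B) (P := P)).map m = 0 := by
    rw [← adjQ_comp, hk, adjQ_zero]
  calc adjQ S k = adjQ S k ≫ (U (B := B) (P := P)).map m ≫ r := by rw [hr, Category.comp_id]
    _ = 0 := by rw [← Category.assoc, h, zero_comp]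

lemma tQ_comm {S : DRing.Cx B} {M : Dual.D P} (k : GQ (P := P) S ⟶ M) :
    D.tQ S ≫ k = k ≫ (D.t • 𝟙 M) := by
  simp [Linear.smul_comp, Linear.comp_smul]

lemma shift_tQ (N : DRing.Cx B) :
    (D.tQ N)⟦(1 : ℤ)⟧' = D.t • 𝟙 ((GQ (P := P) N)⟦(1 : ℤ)⟧) := by
  rw [Functor.map_smul, CategoryTheory.Functor.map_id]

lemma exists_retraction_shift (N : DRing.Cx B) :
    ∃ r, (U (B := B) (P := P)).map ((D.tQ N)⟦(1 : ℤ)⟧') ≫ r = 𝟙 _ := by
  let c := ((U (B := B) (P := P)).commShiftIso (1 : ℤ)).app (GQ (P := P) N)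
  refine ⟨c.hom ≫ (D.ρD N)⟦(1 : ℤ)⟧' ≫ c.inv, ?_⟩
  have nat := ((U (B := B) (P := P)).commShiftIso (1 : ℤ)).hom.naturality (D.tQ N)
  have h1 : (U (B := B) (P := P)).map ((D.tQ N)⟦(1 : ℤ)⟧') ≫ c.hom =
      c.hom ≫ (D.τD N)⟦(1 : ℤ)⟧' := nat
  rw [← Category.assoc, h1, Category.assoc, ← Functor.map_comp_assoc, τρD,
    CategoryTheory.Functor.map_id, Category.id_comp, Iso.hom_inv_id]

theorem Λ_surjective (S N : DRing.Cx B)
    (hS : ∀ f : Q.obj S ⟶ Q.obj N, ∃ f₀ : S ⟶ N, Q.map f₀ = f) :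
    Function.Surjective (D.Λ S N) := by
  intro u
  set u' : Q.obj (D.Rχc.obj S) ⟶ (GQ (P := P) N)⟦(1 : ℤ)⟧ := (D.ξ S).inv ≫ u with hu'
  have hA : Q.map (D.πC.app S) ≫ u' = 0 := by
    obtain ⟨r, hr⟩ := D.exists_retraction_shift N
    refine eq_zero_of_comp_splitMono S ((D.tQ N)⟦(1 : ℤ)⟧') r hr _ ?_
    have h0 : D.tQ S ≫ Q.map (D.πC.app S) = 0 := comp_distTriang_mor_zero₁₂ _ (D.T_dist S)
    rw [shift_tQ, ← tQ_comm, ← Category.assoc, h0, zero_comp]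
  obtain ⟨v, hv⟩ := Triangle.yoneda_exact₃ _ (D.T_dist S) u' hA
  obtain ⟨w, hw0⟩ := (shiftFunctor (Dual.D P) (1 : ℤ)).map_surjective
    (X := GQ (P := P) S) (Y := GQ (P := P) N) v
  replace hv : u' = D.δ S ≫ w⟦(1 : ℤ)⟧' := by rw [hw0]; exact hv
  obtain ⟨f₀, hf₀⟩ := hS (adjQ S w ≫ D.πD N)
  obtain ⟨a, ha⟩ := adjQ_surjective S (adjQ S w ≫ D.ρD N)
  have hw : w = a ≫ D.tQ N + Q.map ((Ec (R := B) P).map f₀) := by
    apply adjQ_injective S
    rw [adjQ_add, adjQ_comp, ha, adjQ_Q_map, hf₀]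
    have h := D.decD N
    calc adjQ S w = adjQ S w ≫ 𝟙 _ := (Category.comp_id _).symm
      _ = _ := by
        rw [← h, Preadditive.comp_add]
        simp only [Category.assoc]
        rfl
  refine ⟨Q.map f₀, ?_⟩
  rw [Λ_Q_map]
  have h3 : D.δ S ≫ (D.tQ S)⟦(1 : ℤ)⟧' = 0 := comp_distTriang_mor_zero₃₁ _ (D.T_dist S)
  have h4 : a ≫ D.tQ N = D.tQ S ≫ a := (D.tQ_comm a).symm
  have h5 : u' = D.δ S ≫ (Q.map ((Ec (R := B) P).map f₀))⟦(1 : ℤ)⟧' := by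
    rw [hv, hw, h4, Functor.map_add, Functor.map_comp, Preadditive.comp_add]
    show D.δ S ≫ _ ≫ _ + D.δ S ≫ _ = _
    rw [← Category.assoc, h3, zero_comp, zero_add]
  rw [← h5, hu', Iso.hom_inv_id_assoc]

theorem Λ_injective (S N : DRing.Cx B)
    (hS : ∀ f : Q.obj S ⟶ Q.obj N, ∃ f₀ : S ⟶ N, Q.map f₀ = f) :
    Function.Injective (D.Λ S N) := by
  intro f f' h
  obtain ⟨g₀, hg₀⟩ := hS (f - f')
  have h0 : D.Λ S N (Q.map g₀) = 0 := by rw [hg₀, Λ_sub, h, sub_self]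
  rw [Λ_Q_map] at h0
  have h1 : D.δ S ≫ (Q.map ((Ec (R := B) P).map g₀))⟦(1 : ℤ)⟧' = 0 :=
    (cancel_epi (D.ξ S).hom).1 (by rw [h0, comp_zero])
  obtain ⟨y, hy⟩ := Triangle.yoneda_exact₃ _ (rot_of_distTriang _ (D.T_dist S))
    ((Q.map ((Ec (R := B) P).map g₀))⟦(1 : ℤ)⟧') h1
  obtain ⟨a, ha0⟩ := (shiftFunctor (Dual.D P) (1 : ℤ)).map_surjective
    (X := GQ (P := P) S) (Y := GQ (P := P) N) y
  replace hy : (Q.map ((Ec (R := B) P).map g₀))⟦(1 : ℤ)⟧' =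
      (-(D.tQ S)⟦(1 : ℤ)⟧') ≫ a⟦(1 : ℤ)⟧' := by rw [ha0]; exact hy
  have h2 : Q.map ((Ec (R := B) P).map g₀) = -(D.tQ S ≫ a) := by
    apply (shiftFunctor (Dual.D P) (1 : ℤ)).map_injective
    rw [hy, Functor.map_neg, Functor.map_comp, Preadditive.neg_comp]
  have h3 : Q.map g₀ ≫ ηD (P := P) N = -(adjQ S a ≫ D.τD N) := by
    rw [← adjQ_Q_map, h2, tQ_comm, adjQ_neg, adjQ_comp]
    rfl
  have h4 : Q.map g₀ = 0 := by
    calc Q.map g₀ = Q.map g₀ ≫ ηD (P := P) N ≫ D.πD N := by rw [ηπD, Category.comp_id]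
      _ = 0 := by
        rw [← Category.assoc, h3, Preadditive.neg_comp, Category.assoc, τπD, comp_zero, neg_zero]
  rw [hg₀] at h4
  exact sub_eq_zero.1 h4

end DivData

end Helper5.Shriek
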