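import Mathlib
import Groth.Prelude.Def_DDual2
import Groth.Agent.Lib.Helper5.Shriek.OneTri
import Groth.Agent.Lib.Helper5.Shriek.FLI
import Groth.Agent.Lib.Helper5.KProj.DerAdj
import Groth.Agent.Lib.Helper5.KProj.LBC
import Groth.Agent.Lib.Helper5.DTenLib.Basic
import Groth.Agent.Lib.Helper3.BCDual

/-!
# The fundamental local isomorphism for division data
-/

set_option autoImplicit false
universe u
open CategoryTheory Limits Pretriangulated

attribute [local instance] HasDerivedCategory.standard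

namespace Helper5.Shriek

open Groth.Agent.Helper5.FlatBC Helper5.FG DerivedCategory Groth.Agent.Helper3.BCDer
  Groth.Agent.Helper3.AdjHtpyPlus Groth.Agent.Lib.Helper5.DTenLib Groth.Agent.Helper3.BCDual

lemma bijective_precomp_iso {C : Type*} [Category C] {X Y : C} (α : X ≅ Y) (Z : C) :
    Function.Bijective (fun f : Y ⟶ Z => α.hom ≫ f) :=
  Function.bijective_iff_has_inverse.2 ⟨fun g => α.inv ≫ g, fun f => by simp, fun g => by simp⟩

lemma bijective_postcomp_iso {C : Type*} [Category C] {X Y : C} (α : X ≅ Y) (Z : C) :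
    Function.Bijective (fun f : Z ⟶ X => f ≫ α.hom) :=
  Function.bijective_iff_has_inverse.2 ⟨fun g => g ≫ α.inv, fun f => by simp, fun g => by simp⟩

variable {B P : Type u} [CommRing B] [CommRing P] [Algebra B P] [Module.Flat B P]
  (D : DivData B P)

namespace DivData

theorem fli_Q (Rχ : Dual.D P ⥤ Dual.D B) (adj : DRing.restrictD D.χ ⊣ Rχ) (N₀ : DRing.Cx B) :
    Nonempty (Rχ.obj ((DRing.LBaseChange (algebraMap B P)).obj (Q.obj N₀)) ≅
      (Q.obj N₀)⟦(-1 : ℤ)⟧) := by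
  let N : Dual.D B := Q.obj N₀
  let L := DRing.LBaseChange (algebraMap B P)
  let θ : GQ (P := P) N₀ ≅ L.obj N := φ (P := P) N₀ ≪≫ (lbcIsoG (A := B) P).symm.app N
  let θ' : (GQ (P := P) N₀)⟦(1 : ℤ)⟧ ≅ (L.obj N)⟦(1 : ℤ)⟧ :=
    (shiftFunctor (Dual.D P) (1 : ℤ)).mapIso θ
  let δ' : (DRing.restrictD D.χ).obj N ⟶ (L.obj N)⟦(1 : ℤ)⟧ :=
    (D.ξ N₀).hom ≫ D.δ N₀ ≫ θ'.hom
  let β' : N ⟶ Rχ.obj ((L.obj N)⟦(1 : ℤ)⟧) := adj.homEquiv _ _ δ'
  have key : ∀ T : Dual.D B, Function.Bijective (fun x : T ⟶ N => x ≫ β') := by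
    intro T
    obtain ⟨S₀, hS₀, ⟨eT⟩⟩ := Groth.Agent.Lib.Helper5.KProj.exists_iso_Qh_kproj
      (Groth.Agent.Lib.Helper5.KProj.hasKProjRes_moduleCat B) T
    have eT' : T ≅ Q.obj S₀ := eT
    have hS : ∀ f : Q.obj S₀ ⟶ Q.obj N₀, ∃ f₀ : S₀ ⟶ N₀, Q.map f₀ = f :=
      fun f => exists_Q_map_eq S₀ N₀ f
    have hΛ : Function.Bijective (D.Λ S₀ N₀) :=
      ⟨D.Λ_injective S₀ N₀ hS, D.Λ_surjective S₀ N₀ hS⟩
    have e : (fun x : T ⟶ N => x ≫ β') =
        (adj.homEquiv T _) ∘ (fun y => (DRing.restrictD D.χ).map eT'.hom ≫ y) ∘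
          (fun y => y ≫ θ'.hom) ∘ (D.Λ S₀ N₀) ∘ (fun x : T ⟶ N => eT'.inv ≫ x) := by
      funext x
      simp only [Function.comp_apply, β', Λ, δ']
      rw [← Adjunction.homEquiv_naturality_left]
      congr 1
      simp only [Functor.map_comp, Category.assoc]
      rw [← Functor.map_comp_assoc, eT'.hom_inv_id, CategoryTheory.Functor.map_id, Category.id_comp]
    rw [e]
    exact (adj.homEquiv T _).bijective.comp
      ((bijective_precomp_iso ((DRing.restrictD D.χ).mapIso eT') _).comp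
        ((bijective_postcomp_iso θ' _).comp
          (hΛ.comp (bijective_precomp_iso eT'.symm _))))
  haveI : IsIso β' := isIso_of_yoneda_map_bijective β' key
  let X := Rχ.obj (L.obj N)
  let e1 : X⟦(1 : ℤ)⟧ ≅ N := (rightAdjShiftIso D.χ adj (L.obj N) 1).symm ≪≫ (asIso β').symm
  exact ⟨(shiftEquiv (Dual.D B) (1 : ℤ)).unitIso.app X ≪≫
    (shiftFunctor (Dual.D B) (-1 : ℤ)).mapIso e1⟩

theorem fli : FLI (algebraMap B P) D.χ 1 := by
  intro Rχ adj N
  obtain ⟨a⟩ := D.fli_Q Rχ adj (Q.objPreimage N)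
  let eN : Q.obj (Q.objPreimage N) ≅ N := Q.objObjPreimageIso N
  exact ⟨Rχ.mapIso ((DRing.LBaseChange (algebraMap B P)).mapIso eN.symm) ≪≫ a ≪≫
    (shiftFunctor (Dual.D B) (-1 : ℤ)).mapIso eN⟩

end DivData

end Helper5.Shriek
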