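import Mathlib
import Groth.Prelude.Def_DDual2
import Groth.Agent.Lib.Helper5.Shriek.OneFLI

/-!
# The fundamental local isomorphism for polynomial rings
-/

set_option autoImplicit false
universe u
open CategoryTheory Limits

attribute [local instance] HasDerivedCategory.standard

namespace Helper5.Shriek

open DerivedCategory Groth.Agent.Lib.Helper5.DTenLib

theorem FLI.congr {P T : Type u} [CommRing P] [CommRing T] {ι ι' : P →+* T} {χ χ' : T →+* P}
    {c c' : ℤ} (h : FLI ι χ c) (hι : ι = ι') (hχ : χ = χ') (hc : c = c') : FLI ι' χ' c' := by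
  subst hι hχ hc
  exact h

theorem FLI.of_ringEquiv_symm {P T : Type u} [CommRing P] [CommRing T] (e : T ≃+* P) :
    FLI e.symm.toRingHom e.toRingHom 0 :=
  FLI.of_ringEquiv e.symm

section Poly

variable (B : Type u) [CommRing B]

/-- `divX` as a linear map -/
noncomputable def divXLin : Polynomial B →ₗ[B] Polynomial B where
  toFun := Polynomial.divX
  map_add' _ _ := Polynomial.divX_add
  map_smul' c p := by
    simp only [RingHom.id_apply, Polynomial.smul_eq_C_mul, Polynomial.divX_C_mul]

/-- the division data of `B[X]` with respect to `X` -/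
noncomputable def polyDivData : DivData B (Polynomial B) where
  χ := Polynomial.evalRingHom 0
  t := Polynomial.X
  d := divXLin B
  χ_alg b := by simp
  χ_t := by simp
  d_mul p := by
    ext n
    simp [divXLin, Polynomial.coeff_divX, Polynomial.coeff_X_mul]
  mul_d p := by
    simp [divXLin, ← Polynomial.coeff_zero_eq_eval_zero, Polynomial.X_mul_divX_add]

variable {B}

theorem fli_poly (g : B) :
    FLI (algebraMap B (Polynomial B)) (Polynomial.evalRingHom g) 1 := by
  have h0 : FLI (algebraMap B (Polynomial B)) (Polynomial.evalRingHom 0) 1 := (polyDivData B).fli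
  let e : Polynomial B ≃+* Polynomial B := (Polynomial.algEquivAevalXAddC g).toRingEquiv
  have h1 := FLI.of_ringEquiv_symm e
  refine (FLI.comp h0 h1).congr ?_ ?_ (by ring)
  · ext b
    simp [e]
  · apply Polynomial.ringHom_ext
    · intro a
      simp [e]
    · simp [e]

end Poly

section Mv

theorem fli_mv : ∀ (m : ℕ) (B : Type u) [CommRing B] (g : Fin m → B),
    FLI (algebraMap B (MvPolynomial (Fin m) B)) (MvPolynomial.eval g) (m : ℤ) := by
  intro m
  induction m with
  | zero =>
    intro B _ g
    let e : MvPolynomial (Fin 0) B ≃+* B := (MvPolynomial.isEmptyAlgEquiv B (Fin 0)).toRingEquiv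
    refine (FLI.of_ringEquiv_symm e).congr ?_ ?_ (by simp)
    · refine RingHom.ext fun b => ?_
      exact (MvPolynomial.isEmptyAlgEquiv B (Fin 0)).symm.commutes b
    · apply MvPolynomial.ringHom_ext
      · intro b
        show (MvPolynomial.isEmptyAlgEquiv B (Fin 0)) (MvPolynomial.C b) = _
        rw [← MvPolynomial.algebraMap_eq, AlgEquiv.commutes]
        simp
      · intro i
        exact i.elim0
  | succ m ih =>
    intro B _ g
    let P₁ := MvPolynomial (Fin m) B
    let e : MvPolynomial (Fin (m + 1)) B ≃+* Polynomial P₁ :=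
      (MvPolynomial.finSuccEquiv B m).toRingEquiv
    have h1 : FLI (algebraMap B P₁) (MvPolynomial.eval (fun j => g j.succ)) (m : ℤ) :=
      ih B (fun j => g j.succ)
    have h2 : FLI (algebraMap P₁ (Polynomial P₁))
        (Polynomial.evalRingHom (MvPolynomial.C (g 0) : P₁)) 1 := fli_poly _
    have h3 := FLI.of_ringEquiv_symm e
    refine ((FLI.comp h1 h2).comp h3).congr ?_ ?_ (by push_cast; ring)
    · refine RingHom.ext fun b => ?_
      show (MvPolynomial.finSuccEquiv B m).symm
        (algebraMap P₁ (Polynomial P₁) (algebraMap B P₁ b)) = algebraMap B _ b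
      rw [← IsScalarTower.algebraMap_apply B P₁ (Polynomial P₁)]
      exact (MvPolynomial.finSuccEquiv B m).symm.commutes b
    · apply MvPolynomial.ringHom_ext
      · intro b
        show MvPolynomial.eval (fun j => g j.succ) (Polynomial.eval (MvPolynomial.C (g 0))
          (MvPolynomial.finSuccEquiv B m (MvPolynomial.C b))) = MvPolynomial.eval g (MvPolynomial.C b)
        rw [MvPolynomial.finSuccEquiv_apply, MvPolynomial.eval₂Hom_C, RingHom.comp_apply,
          Polynomial.eval_C, MvPolynomial.eval_C, MvPolynomial.eval_C]
      · intro i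
        show MvPolynomial.eval (fun j => g j.succ) (Polynomial.eval (MvPolynomial.C (g 0))
          (MvPolynomial.finSuccEquiv B m (MvPolynomial.X i))) = MvPolynomial.eval g (MvPolynomial.X i)
        refine Fin.cases ?_ (fun j => ?_) i
        · rw [MvPolynomial.finSuccEquiv_X_zero, Polynomial.eval_X, MvPolynomial.eval_C,
            MvPolynomial.eval_X]
        · rw [MvPolynomial.finSuccEquiv_X_succ, Polynomial.eval_C, MvPolynomial.eval_X,
            MvPolynomial.eval_X]

end Mv

end Helper5.Shriek
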