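import Mathlib
import Groth.Prelude.Def_DDual2
import Groth.Prelude.Def_DualSh
import Groth.Agent.Lib.Helper5.Shriek.PolyFLI

/-!
# Independence of `φ^!` of the presentation
-/

set_option autoImplicit false
universe u
open CategoryTheory Limits

attribute [local instance] HasDerivedCategory.standard

namespace Helper5.Shriek

open DerivedCategory Groth.Agent.Lib.Helper5.DTenLib

theorem FLI.reduce {R P T A : Type u} [CommRing R] [CommRing P] [CommRing T] [CommRing A]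
    (a : R →+* P) {ι : P →+* T} {χ : T →+* P} {c : ℤ} (h : FLI ι χ c)
    (ψ : P →+* A) (Rψ : Dual.D P ⥤ Dual.D A) (adjψ : DRing.restrictD ψ ⊣ Rψ)
    (Ψ : T →+* A) (hΨ : Ψ = ψ.comp χ) (RΨ : Dual.D T ⥤ Dual.D A)
    (adjΨ : DRing.restrictD Ψ ⊣ RΨ) (ν : R →+* T) (hν : ν = ι.comp a) (K : Dual.D R) :
    Nonempty (Rψ.obj ((DRing.LBaseChange a).obj K) ≅
      (RΨ.obj ((DRing.LBaseChange ν).obj K))⟦c⟧) := by
  subst hΨ hν
  let e1 : RΨ ≅ RCoext χ ⋙ Rψ := rightAdjCompIso χ ψ (rAdj χ) adjψ adjΨ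
  let e2 := lbcCompIso a ι
  obtain ⟨b⟩ := h (RCoext χ) (rAdj χ) ((DRing.LBaseChange a).obj K)
  let e3 : RΨ.obj ((DRing.LBaseChange (ι.comp a)).obj K) ≅
      (Rψ.obj ((DRing.LBaseChange a).obj K))⟦-c⟧ :=
    RΨ.mapIso (e2.app K) ≪≫ e1.app _ ≪≫ Rψ.mapIso b ≪≫ rightAdjShiftIso ψ adjψ _ (-c)
  exact ⟨((shiftEquiv (Dual.D A) c).counitIso.app _).symm ≪≫
    (shiftFunctor (Dual.D A) c).mapIso e3.symm⟩

theorem shriek_indep (R A : Type u) [CommRing R] [CommRing A] [Algebra R A] (n : ℕ)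
    (ψ : MvPolynomial (Fin n) R →ₐ[R] A) (hψ : Function.Surjective ψ)
    (Rψ : Dual.D (MvPolynomial (Fin n) R) ⥤ Dual.D A)
    (adj : DRing.restrictD ψ.toRingHom ⊣ Rψ) (m : ℕ)
    (ψ' : MvPolynomial (Fin m) R →ₐ[R] A) (hψ' : Function.Surjective ψ')
    (Rψ' : Dual.D (MvPolynomial (Fin m) R) ⥤ Dual.D A)
    (adj' : DRing.restrictD ψ'.toRingHom ⊣ Rψ') (K : Dual.D R) :
    Nonempty (Dual2.shriekVia n Rψ K ≅ Dual2.shriekVia m Rψ' K) := by
  let Pn := MvPolynomial (Fin n) R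
  let Pm := MvPolynomial (Fin m) R
  let T₁ := MvPolynomial (Fin m) Pn
  let T₂ := MvPolynomial (Fin n) Pm
  choose g hg using fun j : Fin m => hψ (ψ' (MvPolynomial.X j))
  choose g' hg' using fun i : Fin n => hψ' (ψ (MvPolynomial.X i))
  let ς : T₂ ≃ₐ[R] T₁ := MvPolynomial.commAlgEquiv R (Fin n) (Fin m)
  have F₂ : FLI (algebraMap Pm T₂) (MvPolynomial.eval g') (n : ℤ) := fli_mv n Pm g'
  have F₁ : FLI (ς.toRingEquiv.symm.toRingHom.comp (algebraMap Pn T₁))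
      ((MvPolynomial.eval g).comp ς.toRingEquiv.toRingHom) ((m : ℤ) + 0) :=
    FLI.comp (fli_mv m Pn g) (FLI.of_ringEquiv_symm ς.toRingEquiv)
  let Ψ₂ : T₂ →+* A := ψ'.toRingHom.comp (MvPolynomial.eval g')
  let ν₂ : R →+* T₂ := (algebraMap Pm T₂).comp (algebraMap R Pm)
  have hΨ : Ψ₂ = ψ.toRingHom.comp ((MvPolynomial.eval g).comp ς.toRingEquiv.toRingHom) := by
    apply MvPolynomial.ringHom_ext
    · intro p
      have h1 : Ψ₂.comp MvPolynomial.C =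
          (ψ.toRingHom.comp ((MvPolynomial.eval g).comp ς.toRingEquiv.toRingHom)).comp
            MvPolynomial.C := by
        apply MvPolynomial.ringHom_ext
        · intro r
          show ψ' (MvPolynomial.eval g' (MvPolynomial.C (MvPolynomial.C r))) =
            ψ (MvPolynomial.eval g (ς (MvPolynomial.C (MvPolynomial.C r))))
          rw [MvPolynomial.commAlgEquiv_C, MvPolynomial.map_C, MvPolynomial.eval_C,
            MvPolynomial.eval_C, ← MvPolynomial.algebraMap_eq, ← MvPolynomial.algebraMap_eq,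
            AlgHom.commutes, AlgHom.commutes]
        · intro j
          show ψ' (MvPolynomial.eval g' (MvPolynomial.C (MvPolynomial.X j))) =
            ψ (MvPolynomial.eval g (ς (MvPolynomial.C (MvPolynomial.X j))))
          rw [MvPolynomial.commAlgEquiv_C_X, MvPolynomial.eval_C, MvPolynomial.eval_X, hg j]
      exact RingHom.congr_fun h1 p
    · intro i
      show ψ' (MvPolynomial.eval g' (MvPolynomial.X i)) =
        ψ (MvPolynomial.eval g (ς (MvPolynomial.X i)))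
      rw [MvPolynomial.commAlgEquiv_X, MvPolynomial.eval_C, MvPolynomial.eval_X, hg' i]
  have hν : ν₂ = (ς.toRingEquiv.symm.toRingHom.comp (algebraMap Pn T₁)).comp
      (algebraMap R Pn) := by
    refine RingHom.ext fun r => ?_
    show algebraMap Pm T₂ (algebraMap R Pm r) = ς.symm (algebraMap Pn T₁ (algebraMap R Pn r))
    rw [← IsScalarTower.algebraMap_apply R Pm T₂, ← IsScalarTower.algebraMap_apply R Pn T₁,
      AlgEquiv.commutes]
  let Z : Dual.D A := (RCoext Ψ₂).obj ((DRing.LBaseChange ν₂).obj K)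
  obtain ⟨i2⟩ := F₂.reduce (algebraMap R Pm) ψ'.toRingHom Rψ' adj' Ψ₂ rfl (RCoext Ψ₂) (rAdj Ψ₂)
    ν₂ rfl K
  obtain ⟨i1⟩ := F₁.reduce (algebraMap R Pn) ψ.toRingHom Rψ adj Ψ₂ hΨ (RCoext Ψ₂) (rAdj Ψ₂)
    ν₂ hν K
  have i1' : Rψ.obj ((DRing.LBaseChange (algebraMap R Pn)).obj K) ≅ Z⟦(m : ℤ)⟧ :=
    i1 ≪≫ (shiftFunctorAdd' (Dual.D A) (m : ℤ) 0 ((m : ℤ) + 0) rfl).app Z ≪≫
      (shiftFunctorZero (Dual.D A) ℤ).app _
  refine ⟨(shiftFunctor (Dual.D A) (n : ℤ)).mapIso i1' ≪≫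
    (shiftFunctorAdd' (Dual.D A) (m : ℤ) (n : ℤ) ((m : ℤ) + n) rfl).symm.app Z ≪≫
    (shiftFunctorAdd' (Dual.D A) (n : ℤ) (m : ℤ) ((m : ℤ) + n) (add_comm _ _)).app Z ≪≫
    ((shiftFunctor (Dual.D A) (m : ℤ)).mapIso i2).symm⟩

end Helper5.Shriek
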