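import Mathlib
import Groth.Prelude.Def_DDual2
import Groth.Prelude.Def_DualSh
import Groth.Agent.Lib.Helper5.Shriek.BCCmp
import Groth.Agent.Lib.Helper5.Shriek.Indep

/-!
# Composition of upper shriek functors
-/

set_option autoImplicit false
universe u
open CategoryTheory Limits Triangulated

attribute [local instance] HasDerivedCategory.standard
attribute [local instance] MvPolynomial.algebraMvPolynomial

namespace Helper5.Shriek

open DerivedCategory Groth.Agent.Lib.Helper5.DTenLib Groth.Agent.Helper3.BCDer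
  Groth.Agent.Helper3.BCDual

section Flat

variable {A : Type u} [CommRing A] (B : Type u) [CommRing B] [Algebra A B] [Module.Flat A B]

/-- derived base change along a flat map commutes with shifts -/
noncomputable def lbcShiftIso (X : Dual.D A) (n : ℤ) :
    (DRing.LBaseChange (algebraMap A B)).obj (X⟦n⟧) ≅
      ((DRing.LBaseChange (algebraMap A B)).obj X)⟦n⟧ :=
  (lbcIsoG (A := A) B).app (X⟦n⟧) ≪≫ GshiftIso B X n ≪≫
    (shiftFunctor (Dual.D B) n).mapIso ((lbcIsoG (A := A) B).symm.app X)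

lemma isGE_lbc (X : Dual.D A) (a : ℤ) [X.IsGE a] :
    ((DRing.LBaseChange (algebraMap A B)).obj X).IsGE a := by
  haveI : ((G (A := A) B).obj X).IsGE a := isGE_G B X a
  exact (TStructure.t : TStructure (Dual.D B)).isGE_of_iso ((lbcIsoG (A := A) B).symm.app X) a

end Flat

section BC

variable {P P' A A' : Type u} [CommRing P] [CommRing P'] [CommRing A] [CommRing A']
  [Algebra P P'] [Algebra P A] [Algebra A A'] [Algebra P' A'] [Algebra P A']
  [IsScalarTower P A A'] [IsScalarTower P P' A'] [Algebra.IsPushout P P' A A']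
  [Module.Flat P P'] [Module.Flat A A'] [IsNoetherianRing P] [IsNoetherianRing A]
  {R : Dual.D P ⥤ Dual.D A} (adj : DRing.restrictD (algebraMap P A) ⊣ R)
  {R' : Dual.D P' ⥤ Dual.D A'} (adj' : DRing.restrictD (algebraMap P' A') ⊣ R')

include adj adj' in
/-- flat base change for right adjoints of restriction, in terms of derived base change -/
theorem lbc_R_iso (hψ : Function.Surjective (algebraMap P A))
    (hψ' : Function.Surjective (algebraMap P' A')) (N : Dual.D P) (a : ℤ) [N.IsGE a] :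
    Nonempty ((DRing.LBaseChange (algebraMap A A')).obj (R.obj N) ≅
      R'.obj ((DRing.LBaseChange (algebraMap P P')).obj N)) :=
  ⟨(lbcIsoG (A := A) A').app (R.obj N) ≪≫ bcIso adj adj' hψ hψ' N a ≪≫
    R'.mapIso ((lbcIsoG (A := P) P').symm.app N)⟩

end BC

section Comp

theorem shriek_comp (A₀ B C : Type u) [CommRing A₀] [CommRing B] [CommRing C]
    [IsNoetherianRing A₀] [IsNoetherianRing B] [Algebra A₀ B] [Algebra B C]
    [Algebra A₀ C] [IsScalarTower A₀ B C] (n : ℕ) (ψ : MvPolynomial (Fin n) A₀ →ₐ[A₀] B)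
    (hψ : Function.Surjective ψ)
    (Rψ : Dual.D (MvPolynomial (Fin n) A₀) ⥤ Dual.D B) (adj : DRing.restrictD ψ.toRingHom ⊣ Rψ)
    (m : ℕ) (χ : MvPolynomial (Fin m) B →ₐ[B] C) (hχ : Function.Surjective χ)
    (Rχ : Dual.D (MvPolynomial (Fin m) B) ⥤ Dual.D C) (adjχ : DRing.restrictD χ.toRingHom ⊣ Rχ)
    (k : ℕ) (θ : MvPolynomial (Fin k) A₀ →ₐ[A₀] C) (hθ : Function.Surjective θ)
    (Rθ : Dual.D (MvPolynomial (Fin k) A₀) ⥤ Dual.D C) (adjθ : DRing.restrictD θ.toRingHom ⊣ Rθ)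
    (K : Dual.D A₀) (c : ℤ) (hK : ∀ i : ℤ, i < c → Subsingleton (Dual.HD A₀ K i)) :
    Nonempty (Dual2.shriekVia k Rθ K ≅ Dual2.shriekVia m Rχ (Dual2.shriekVia n Rψ K)) := by
  let P := MvPolynomial (Fin n) A₀
  letI : Algebra P B := ψ.toRingHom.toAlgebra
  let P' := MvPolynomial (Fin m) P
  let B' := MvPolynomial (Fin m) B
  have hψs : Function.Surjective (algebraMap P B) := hψ
  have hψ's : Function.Surjective (algebraMap P' B') := MvPolynomial.map_surjective _ hψs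
  have adjs : DRing.restrictD (algebraMap P B) ⊣ Rψ := adj
  haveI : K.IsGE c := by
    rw [DerivedCategory.isGE_iff]
    intro i hi
    haveI := hK i hi
    exact ModuleCat.isZero_of_subsingleton _
  let N : Dual.D P := (DRing.LBaseChange (algebraMap A₀ P)).obj K
  haveI : N.IsGE c := isGE_lbc P K c
  obtain ⟨i1⟩ := lbc_R_iso (P' := P') (A' := B') adjs (rAdj (algebraMap P' B')) hψs hψ's N c
  -- the common object
  let ν : A₀ →+* P' := (algebraMap P P').comp (algebraMap A₀ P)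
  let Ψ : P' →+* C := χ.toRingHom.comp (algebraMap P' B')
  let Z : Dual.D C := (RCoext Ψ).obj ((DRing.LBaseChange ν).obj K)
  -- the right hand side
  let X : Dual.D B := Rψ.obj N
  let Y' : Dual.D B' := (RCoext (algebraMap P' B')).obj ((DRing.LBaseChange (algebraMap P P')).obj N)
  let Y : Dual.D B' := (RCoext (algebraMap P' B')).obj ((DRing.LBaseChange ν).obj K)
  let eY : Y' ≅ Y := (RCoext (algebraMap P' B')).mapIso
    ((lbcCompIso (algebraMap A₀ P) (algebraMap P P')).symm.app K)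
  let r1 : (DRing.LBaseChange (algebraMap B B')).obj (X⟦(n : ℤ)⟧) ≅ Y⟦(n : ℤ)⟧ :=
    lbcShiftIso B' X n ≪≫ (shiftFunctor (Dual.D B') (n : ℤ)).mapIso (i1 ≪≫ eY)
  let r2 : Rχ.obj Y ≅ Z :=
    ((rightAdjCompIso (algebraMap P' B') χ.toRingHom (rAdj (algebraMap P' B')) adjχ
      (rAdj Ψ)).app ((DRing.LBaseChange ν).obj K)).symm
  let rhs : Dual2.shriekVia m Rχ (Dual2.shriekVia n Rψ K) ≅ (Z⟦(n : ℤ)⟧)⟦(m : ℤ)⟧ :=
    (shiftFunctor (Dual.D C) (m : ℤ)).mapIso
      (Rχ.mapIso r1 ≪≫ rightAdjShiftIso χ.toRingHom adjχ Y n ≪≫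
        (shiftFunctor (Dual.D C) (n : ℤ)).mapIso r2)
  -- the left hand side
  let e : MvPolynomial (Fin (m + n)) A₀ ≃ₐ[A₀] P' :=
    (MvPolynomial.renameEquiv A₀ finSumFinEquiv).symm.trans
      (MvPolynomial.sumAlgEquiv A₀ (Fin m) (Fin n))
  let ΨA : P' →ₐ[A₀] C := (χ.restrictScalars A₀).comp (MvPolynomial.mapAlgHom ψ)
  have hΨA : ΨA.toRingHom = Ψ := rfl
  let θ' : MvPolynomial (Fin (m + n)) A₀ →ₐ[A₀] C := ΨA.comp e.toAlgHom
  have hθ' : Function.Surjective θ' := by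
    have h1 : Function.Surjective ΨA := hχ.comp hψ's
    exact h1.comp e.surjective
  obtain ⟨l1⟩ := shriek_indep A₀ C k θ hθ Rθ adjθ (m + n) θ' hθ' (RCoext θ'.toRingHom)
    (rAdj θ'.toRingHom) K
  have hΨ : Ψ = θ'.toRingHom.comp e.toRingEquiv.symm.toRingHom := by
    refine RingHom.ext fun x => ?_
    show Ψ x = ΨA (e (e.symm x))
    rw [AlgEquiv.apply_symm_apply]
    rfl
  have hν : ν = e.toRingEquiv.toRingHom.comp (algebraMap A₀ (MvPolynomial (Fin (m + n)) A₀)) := by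
    refine RingHom.ext fun r => ?_
    show algebraMap P P' (algebraMap A₀ P r) = e (algebraMap A₀ _ r)
    rw [AlgEquiv.commutes, ← IsScalarTower.algebraMap_apply A₀ P P']
  obtain ⟨l2⟩ := (FLI.of_ringEquiv e.toRingEquiv).reduce
    (algebraMap A₀ (MvPolynomial (Fin (m + n)) A₀)) θ'.toRingHom (RCoext θ'.toRingHom)
    (rAdj θ'.toRingHom) Ψ hΨ (RCoext Ψ) (rAdj Ψ) ν hν K
  let lhs : Dual2.shriekVia k Rθ K ≅ (Z⟦(0 : ℤ)⟧)⟦((m + n : ℕ) : ℤ)⟧ :=
    l1 ≪≫ (shiftFunctor (Dual.D C) ((m + n : ℕ) : ℤ)).mapIso l2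
  refine ⟨lhs ≪≫ (shiftFunctor (Dual.D C) ((m + n : ℕ) : ℤ)).mapIso
    ((shiftFunctorZero (Dual.D C) ℤ).app Z) ≪≫
    (shiftFunctorAdd' (Dual.D C) (n : ℤ) (m : ℤ) ((m + n : ℕ) : ℤ) (by push_cast; ring)).app Z ≪≫
    rhs.symm⟩

end Comp

end Helper5.Shriek
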