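import Mathlib
import Groth.Prelude.Def_DDual2
import Groth.Prelude.Def_DualSh
import Groth.Agent.Lib.Helper5.Shriek.Comp

/-!
# Flat base change for upper shriek
-/

set_option autoImplicit false
universe u
open CategoryTheory Limits Triangulated TensorProduct

attribute [local instance] HasDerivedCategory.standard
attribute [local instance] MvPolynomial.algebraMvPolynomial
attribute [local instance] Algebra.TensorProduct.rightAlgebra

namespace Helper5.Shriek

open DerivedCategory Groth.Agent.Lib.Helper5.DTenLib Groth.Agent.Helper3.BCDer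
  Groth.Agent.Helper3.BCDual

/-- derived base change along equal maps -/
noncomputable def lbcEqIso {R₁ R₂ : Type u} [CommRing R₁] [CommRing R₂] {f g : R₁ →+* R₂}
    (h : f = g) : DRing.LBaseChange f ≅ DRing.LBaseChange g := by
  subst h
  exact Iso.refl _

theorem shriek_flat_bc (R R' A : Type u) [CommRing R] [CommRing R'] [CommRing A]
    [IsNoetherianRing R] [IsNoetherianRing A] [Algebra R R']
    [Module.Flat R R'] [Algebra R A] (n : ℕ)
    (ψ : MvPolynomial (Fin n) R →ₐ[R] A) (hψ : Function.Surjective ψ)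
    (Rψ : Dual.D (MvPolynomial (Fin n) R) ⥤ Dual.D A) (adj : DRing.restrictD ψ.toRingHom ⊣ Rψ)
    (m : ℕ) (ψ' : MvPolynomial (Fin m) R' →ₐ[R'] (R' ⊗[R] A)) (hψ' : Function.Surjective ψ')
    (Rψ' : Dual.D (MvPolynomial (Fin m) R') ⥤ Dual.D (R' ⊗[R] A))
    (adj' : DRing.restrictD ψ'.toRingHom ⊣ Rψ') (K : Dual.D R) (c : ℤ)
    (hK : ∀ i : ℤ, i < c → Subsingleton (Dual.HD R K i)) :
    Nonempty ((DRing.LBaseChange
        (Algebra.TensorProduct.includeRight : A →ₐ[R] R' ⊗[R] A).toRingHom).obj
          (Dual2.shriekVia n Rψ K) ≅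
      Dual2.shriekVia m Rψ' ((DRing.LBaseChange (algebraMap R R')).obj K)) := by
  let P := MvPolynomial (Fin n) R
  let P' := MvPolynomial (Fin n) R'
  let A' := R' ⊗[R] A
  letI : Algebra P A := ψ.toRingHom.toAlgebra
  let ψ₁ : P' →ₐ[R'] A' := MvPolynomial.aeval (fun i => (1 : R') ⊗ₜ[R] ψ (MvPolynomial.X i))
  letI : Algebra P' A' := ψ₁.toRingHom.toAlgebra
  letI : Algebra P A' := ((algebraMap A A').comp (algebraMap P A)).toAlgebra
  haveI : IsScalarTower P A A' := IsScalarTower.of_algebraMap_eq (fun _ => rfl)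
  haveI : IsScalarTower P P' A' := by
    refine IsScalarTower.of_algebraMap_eq' ?_
    apply MvPolynomial.ringHom_ext
    · intro r
      show (1 : R') ⊗ₜ[R] ψ (MvPolynomial.C r) = ψ₁ (MvPolynomial.map (algebraMap R R') (MvPolynomial.C r))
      rw [MvPolynomial.map_C, MvPolynomial.aeval_C, Algebra.TensorProduct.algebraMap_apply,
        ← MvPolynomial.algebraMap_eq, AlgHom.commutes, Algebra.algebraMap_eq_smul_one,
        Algebra.algebraMap_eq_smul_one r]
      simp [TensorProduct.tmul_smul, TensorProduct.smul_tmul']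
    · intro i
      show (1 : R') ⊗ₜ[R] ψ (MvPolynomial.X i) = ψ₁ (MvPolynomial.map (algebraMap R R') (MvPolynomial.X i))
      rw [MvPolynomial.map_X, MvPolynomial.aeval_X]
  haveI : IsScalarTower R' P' A' := IsScalarTower.of_algebraMap_eq (fun r => (ψ₁.commutes r).symm)
  haveI : IsScalarTower R P' A' := by
    refine IsScalarTower.of_algebraMap_eq (fun r => ?_)
    rw [IsScalarTower.algebraMap_apply R R' A', IsScalarTower.algebraMap_apply R R' P',
      ← IsScalarTower.algebraMap_apply R' P' A']
  haveI : Algebra.IsPushout P A P' A' :=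
    (Algebra.IsPushout.comp_iff R P R' P').1 inferInstance
  haveI : Algebra.IsPushout P P' A A' := Algebra.IsPushout.symm inferInstance
  haveI : Module.Flat P P' :=
    Module.Flat.isBaseChange (R := R) (S := P) (M := R') (N := P')
      (Algebra.IsPushout.out (R := R) (S := P) (R' := R') (S' := P'))
  haveI : Module.Flat A A' :=
    Module.Flat.isBaseChange (R := R) (S := A) (M := R') (N := A')
      (Algebra.IsPushout.out (R := R) (S := A) (R' := R') (S' := A'))
  have hψs : Function.Surjective (algebraMap P A) := hψ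
  have hψ₁ : Function.Surjective ψ₁ := by
    intro x
    induction x using TensorProduct.induction_on with
    | zero => exact ⟨0, map_zero _⟩
    | tmul r' a =>
      obtain ⟨p, rfl⟩ := hψ a
      refine ⟨MvPolynomial.C r' * MvPolynomial.map (algebraMap R R') p, ?_⟩
      have h1 : ψ₁ (MvPolynomial.map (algebraMap R R') p) = (1 : R') ⊗ₜ[R] ψ p :=
        (IsScalarTower.algebraMap_apply P P' A' p).symm
      have h2 : ψ₁ (MvPolynomial.C r') = r' ⊗ₜ[R] (1 : A) := by
        rw [← MvPolynomial.algebraMap_eq, AlgHom.commutes, Algebra.TensorProduct.algebraMap_apply,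
          Algebra.algebraMap_self_apply]
      rw [map_mul, h1, h2, Algebra.TensorProduct.tmul_mul_tmul, mul_one, one_mul]
    | add x y hx hy =>
      obtain ⟨a, ha⟩ := hx
      obtain ⟨b, hb⟩ := hy
      exact ⟨a + b, by rw [map_add, ha, hb]⟩
  have hψ's : Function.Surjective (algebraMap P' A') := hψ₁
  have adjs : DRing.restrictD (algebraMap P A) ⊣ Rψ := adj
  haveI : K.IsGE c := by
    rw [DerivedCategory.isGE_iff]
    intro i hi
    haveI := hK i hi
    exact ModuleCat.isZero_of_subsingleton _
  let N : Dual.D P := (DRing.LBaseChange (algebraMap R P)).obj K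
  haveI : N.IsGE c := isGE_lbc P K c
  obtain ⟨i1⟩ := lbc_R_iso (P' := P') (A' := A') adjs (rAdj (algebraMap P' A')) hψs hψ's N c
  let K' : Dual.D R' := (DRing.LBaseChange (algebraMap R R')).obj K
  have hcomp : (algebraMap P P').comp (algebraMap R P) =
      (algebraMap R' P').comp (algebraMap R R') := by
    refine RingHom.ext fun r => ?_
    show algebraMap P P' (algebraMap R P r) = algebraMap R' P' (algebraMap R R' r)
    rw [← IsScalarTower.algebraMap_apply R P P', ← IsScalarTower.algebraMap_apply R R' P']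
  let eN : (DRing.LBaseChange (algebraMap P P')).obj N ≅
      (DRing.LBaseChange (algebraMap R' P')).obj K' :=
    (lbcCompIso (algebraMap R P) (algebraMap P P')).symm.app K ≪≫ (lbcEqIso hcomp).app K ≪≫
      (lbcCompIso (algebraMap R R') (algebraMap R' P')).app K
  let l1 : (DRing.LBaseChange (algebraMap A A')).obj (Dual2.shriekVia n Rψ K) ≅
      Dual2.shriekVia n (RCoext ψ₁.toRingHom) K' :=
    lbcShiftIso A' (Rψ.obj N) n ≪≫ (shiftFunctor (Dual.D A') (n : ℤ)).mapIso
      (i1 ≪≫ (RCoext (algebraMap P' A')).mapIso eN)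
  obtain ⟨l2⟩ := shriek_indep R' A' n ψ₁ hψ₁ (RCoext ψ₁.toRingHom) (rAdj ψ₁.toRingHom) m ψ' hψ'
    Rψ' adj' K'
  exact ⟨l1 ≪≫ l2⟩

end Helper5.Shriek
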