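import Mathlib
import Groth.Prelude.Def_DDual2
import Groth.Agent.Lib.Helper5.FG.Loc
import Groth.Agent.Lib.Helper5.Shriek.OneMod

/-!
# Frobenius algebras: extension of scalars is right adjoint to restriction
-/

set_option autoImplicit false
universe u
open CategoryTheory Limits TensorProduct

namespace Helper5.Shriek.Frob

open Groth.Agent.Helper5.FlatBC Helper5.FG
open scoped ChangeOfRings

variable {R : Type u} [CommRing R] (B : Type u) [CommRing B] [Algebra R B] (τ : B →ₗ[R] R)

/-- the pairing `b ↦ τ (b * -)` -/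
noncomputable def θ : B →ₗ[R] Module.Dual R B := (LinearMap.mul R B).compr₂ τ

lemma θ_apply (b b' : B) : θ B τ b b' = τ (b * b') := rfl

/-- `b ⊗ m ↦ (b' ↦ τ (b * b') • m)` -/
noncomputable def ΨLin (M : Type u) [AddCommGroup M] [Module R M] :
    B ⊗[R] M →ₗ[R] (B →ₗ[R] M) :=
  dualTensorHom R B M ∘ₗ (θ B τ).rTensor M

lemma ΨLin_tmul (M : Type u) [AddCommGroup M] [Module R M] (b b' : B) (m : M) :
    ΨLin B τ M (b ⊗ₜ m) b' = τ (b * b') • m := by
  rw [ΨLin, LinearMap.comp_apply, LinearMap.rTensor_tmul, dualTensorHom_apply, θ_apply]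

lemma ΨLin_bijective [Module.Free R B] [Module.Finite R B] (hτ : Function.Bijective (θ B τ))
    (M : Type u) [AddCommGroup M] [Module R M] : Function.Bijective (ΨLin B τ M) := by
  let e := LinearEquiv.ofBijective (θ B τ) hτ
  have h1 : ΨLin B τ M = (dualTensorHomEquiv R B M).toLinearMap ∘ₗ (e.rTensor M).toLinearMap := by
    rw [ΨLin]
    congr 1
  rw [h1]
  exact (dualTensorHomEquiv R B M).bijective.comp (e.rTensor M).bijective

/-- the trace map `B ⊗ M → M` -/
noncomputable def εLin (M : ModuleCat.{u} R) : (Eres (A := R) B).obj M →ₗ[R] M :=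
  (TensorProduct.lid R M).toLinearMap ∘ₗ (τ.rTensor M) ∘ₗ (eqvA B M).symm.toLinearMap

lemma εLin_apply (M : ModuleCat.{u} R) (b : B) (m : M) :
    εLin B τ M (eqvA B M (b ⊗ₜ m)) = τ b • m := by
  show (TensorProduct.lid R M) ((τ.rTensor M) ((eqvA B M).symm (eqvA B M (b ⊗ₜ m)))) = _
  rw [LinearEquiv.symm_apply_apply, LinearMap.rTensor_tmul, TensorProduct.lid_tmul]

/-- the trace as a natural transformation -/
noncomputable def ε : Eres (A := R) B ⟶ 𝟭 (ModuleCat.{u} R) where
  app M := ModuleCat.ofHom (X := ((Eres (A := R) B).obj M : ModuleCat.{u} R)) (Y := M)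
    (εLin B τ M)
  naturality M M' h := by
    apply DivData.Eres_hom_ext
    intro b m
    have h1 : ((Eres (A := R) B).map h).hom (eqvA B M (b ⊗ₜ m)) = eqvA B M' (b ⊗ₜ h.hom m) :=
      DivData.Eres_map_apply h b m
    show εLin B τ M' (((Eres (A := R) B).map h).hom (eqvA B M (b ⊗ₜ m))) =
      h.hom (εLin B τ M (eqvA B M (b ⊗ₜ m)))
    rw [h1, εLin_apply, εLin_apply, map_smul]

/-- the comparison from extension to coextension of scalars -/
noncomputable def ν :
    Ef (R := R) B ⟶ ModuleCat.coextendScalars.{u, u, u} (algebraMap R B) where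
  app M := (ModuleCat.restrictCoextendScalarsAdj.{u, u, u} (algebraMap R B)).homEquiv _ _
    ((ε B τ).app M)
  naturality M M' h := by
    rw [← Adjunction.homEquiv_naturality_left, ← Adjunction.homEquiv_naturality_right]
    congr 1
    exact (ε B τ).naturality h

lemma ν_apply (M : ModuleCat.{u} R) (x : (Ef (R := R) B).obj M) (b' : B) :
    ModuleCat.CoextendScalars.equiv _ _ (((ν B τ).app M).hom x) b' = εLin B τ M (b' • x) := rfl

lemma smul_eqvA (M : ModuleCat.{u} R) (b' b : B) (m : M) :
    (b' • (show (Ef (R := R) B).obj M from eqvA B M (b ⊗ₜ m))) = eqvA B M ((b' * b) ⊗ₜ m) := by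
  have h := (eqv B M).map_smul b' (b ⊗ₜ[R] m)
  rw [TensorProduct.smul_tmul', smul_eq_mul] at h
  exact h.symm

/-- the action of `b'` on `B ⊗ M`, `R`-linearly -/
noncomputable def act (M : ModuleCat.{u} R) (b' : B) :
    (Eres (A := R) B).obj M →ₗ[R] (Eres (A := R) B).obj M :=
  ((ModuleCat.restrictScalars.{u} (algebraMap R B)).map
    (ModuleCat.ofHom (LinearMap.lsmul B ((Ef (R := R) B).obj M) b'))).hom

lemma act_eqvA (M : ModuleCat.{u} R) (b' b : B) (m : M) :
    act B M b' (eqvA B M (b ⊗ₜ m)) = eqvA B M ((b' * b) ⊗ₜ m) :=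
  smul_eqvA B M b' b m

lemma ν_eqvA' (M : ModuleCat.{u} R) (y : B ⊗[R] M) (b' : B) :
    ModuleCat.CoextendScalars.equiv _ _ (((ν B τ).app M).hom (eqvA B M y)) b' =
      (εLin B τ M ∘ₗ act B M b' ∘ₗ (eqvA B M).toLinearMap) y := rfl

lemma ν_eqvA (M : ModuleCat.{u} R) (y : B ⊗[R] M) (b' : B) :
    ModuleCat.CoextendScalars.equiv _ _ (((ν B τ).app M).hom (eqvA B M y)) b' =
      ΨLin B τ M y b' := by
  rw [ν_eqvA']
  have h : εLin B τ M ∘ₗ act B M b' ∘ₗ (eqvA B M).toLinearMap =
      (LinearMap.applyₗ b') ∘ₗ ΨLin B τ M := by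
    apply TensorProduct.ext'
    intro b m
    show εLin B τ M (act B M b' (eqvA B M (b ⊗ₜ m))) = ΨLin B τ M (b ⊗ₜ m) b'
    rw [act_eqvA, εLin_apply, ΨLin_tmul, mul_comm]
  rw [h]
  rfl

variable [Module.Free R B] [Module.Finite R B] (hτ : Function.Bijective (θ B τ))

include hτ in
lemma ν_app_bijective (M : ModuleCat.{u} R) : Function.Bijective ((ν B τ).app M).hom := by
  constructor
  · rw [injective_iff_map_eq_zero]
    intro x hx
    obtain ⟨y, rfl⟩ := (eqvA B M).surjective x
    have h1 : ΨLin B τ M y = 0 := by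
      ext b'
      rw [← ν_eqvA, hx]
      rfl
    have h2 : y = 0 := (ΨLin_bijective B τ hτ M).1 (h1.trans (map_zero _).symm)
    rw [h2, map_zero]
    rfl
  · intro g
    let g' : B →ₗ[R] M :=
      { toFun := fun b => ModuleCat.CoextendScalars.equiv _ _ g b
        map_add' := fun b b' => map_add _ b b'
        map_smul' := fun r b => by
          have h := (ModuleCat.CoextendScalars.equiv (algebraMap R B) M g).map_smul r
            (show (ModuleCat.restrictScalars (algebraMap R B)).obj (ModuleCat.of B B) from b)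
          rw [ModuleCat.restrictScalars.smul_def] at h
          simp only [RingHom.id_apply]
          rw [Algebra.smul_def]
          exact h }
    obtain ⟨y, hy⟩ := (ΨLin_bijective B τ hτ M).2 g'
    refine ⟨eqvA B M y, ?_⟩
    apply ModuleCat.CoextendScalars.ext
    ext b'
    rw [ν_eqvA, hy]
    rfl

include hτ in
lemma isIso_ν : IsIso (ν B τ) := by
  haveI : ∀ M, IsIso ((ν B τ).app M) := fun M =>
    (ConcreteCategory.isIso_iff_bijective _).2 (ν_app_bijective B τ hτ M)
  exact NatIso.isIso_of_isIso_app _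

/-- for a Frobenius algebra, extension of scalars is right adjoint to restriction -/
noncomputable def adjM :
    ModuleCat.restrictScalars.{u} (algebraMap R B) ⊣ Ef (R := R) B :=
  haveI := isIso_ν B τ hτ
  (ModuleCat.restrictCoextendScalarsAdj.{u, u, u} (algebraMap R B)).ofNatIsoRight
    (asIso (ν B τ)).symm

end Helper5.Shriek.Frob
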