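import Mathlib
import Groth.Prelude.Def_DDual2
import Groth.Agent.Lib.Helper5.FG.Base
import Groth.Agent.Lib.Helper5.Shriek.FrobMod
import Groth.Agent.Lib.Helper3.BCDual

/-!
# Frobenius algebras: `RHom_R(B, -) ≅ - ⊗^L_R B`
-/

set_option autoImplicit false
universe u
open CategoryTheory Limits

attribute [local instance] HasDerivedCategory.standard

namespace Helper5.Shriek.Frob

open Groth.Agent.Helper5.FlatBC Helper5.FG DerivedCategory Groth.Agent.Helper3.BCDer
  Groth.Agent.Helper3.BCDual Groth.Agent.Helper3.AdjHtpyPlus

variable {R : Type u} [CommRing R] (B : Type u) [CommRing B] [Algebra R B] [Module.Flat R B]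
  (adjM : ModuleCat.restrictScalars.{u} (algebraMap R B) ⊣ Ef (R := R) B)

/-- the adjunction on complexes -/
noncomputable def adjC' : Rc (A := R) B ⊣ Ec (R := R) B :=
  Adjunction.mkOfUnitCounit
    { unit :=
        { app := fun K => unitC adjM _ K
          naturality := fun K K' g => unitC_naturality adjM _ g }
      counit :=
        { app := fun K => counitC adjM _ K
          naturality := fun K K' g => counitC_naturality adjM _ g }
      left_triangle := by
        ext K : 2
        exact left_triangleC adjM _ K
      right_triangle := by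
        ext K : 2
        exact right_triangleC adjM _ K }

/-- the derived adjunction `restriction ⊣ B ⊗_R -` for a (flat) Frobenius algebra -/
noncomputable def adjDer : DRing.restrictD (algebraMap R B) ⊣ G (A := R) B :=
  (adjC' B adjM).localization (Q (C := ModuleCat.{u} B))
    (HomologicalComplex.quasiIso (ModuleCat.{u} B) (ComplexShape.up ℤ))
    (Q (C := ModuleCat.{u} R))
    (HomologicalComplex.quasiIso (ModuleCat.{u} R) (ComplexShape.up ℤ))
    (DRing.restrictD (algebraMap R B)) (G (A := R) B)

include adjM in
theorem frob_iso [DRing.HasLBaseChange (algebraMap R B)]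
    (R' : Dual.D R ⥤ Dual.D B) (adj : DRing.restrictD (algebraMap R B) ⊣ R')
    (K : Dual.D R) :
    Nonempty (R'.obj K ≅ (DRing.LBaseChange (algebraMap R B)).obj K) :=
  ⟨(adj.rightAdjointUniq (adjDer B adjM)).app K ≪≫ ((lbcIsoG (A := R) B).symm.app K)⟩

end Helper5.Shriek.Frob
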