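import Mathlib
import Groth.Prelude.Def_DDual2
import Groth.Agent.Lib.Helper5.Shriek.FrobDer
import Groth.Agent.Lib.Helper5.DTenLib.Base

/-!
# A ring with a power basis is a Frobenius algebra; the case `R[X]/(g)`, `g` monic
-/

set_option autoImplicit false
universe u
open CategoryTheory Limits

attribute [local instance] HasDerivedCategory.standard

namespace Helper5.Shriek.Frob

open Groth.Agent.Helper5.FlatBC Groth.Agent.Lib.Helper5.DTenLib

section PB

variable {R B : Type u} [CommRing R] [CommRing B] [Algebra R B] (pb : PowerBasis R B)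

/-- the coefficient of the top power of the generator -/
noncomputable def τpb : B →ₗ[R] R :=
  if h : 0 < pb.dim then pb.basis.coord ⟨pb.dim - 1, by omega⟩ else 0

lemma τpb_pow (m : ℕ) (hm : m < pb.dim) :
    τpb pb (pb.gen ^ m) = if m = pb.dim - 1 then 1 else 0 := by
  have h0 : 0 < pb.dim := by omega
  rw [τpb, dif_pos h0]
  have e : pb.gen ^ m = pb.basis ⟨m, hm⟩ := (pb.basis_eq_pow ⟨m, hm⟩).symm
  rw [e, Module.Basis.coord_apply, Module.Basis.repr_self, Finsupp.single_apply]
  simp only [Fin.mk.injEq]

lemma mem_range_of_vanish (n : ℕ) (hn : n ≤ pb.dim) (φ : Module.Dual R B)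
    (hφ : ∀ j : Fin pb.dim, (j : ℕ) + n < pb.dim → φ (pb.basis j) = 0) :
    φ ∈ LinearMap.range (θ B (τpb pb)) := by
  induction n generalizing φ with
  | zero =>
    have h0 : φ = 0 := pb.basis.ext (fun j => by
      rw [hφ j (by simp), LinearMap.zero_apply])
    rw [h0]
    exact Submodule.zero_mem _
  | succ n ih =>
    have hn' : n < pb.dim := hn
    let k₀ : Fin pb.dim := ⟨pb.dim - 1 - n, by omega⟩
    set c := φ (pb.basis k₀) with hc
    have h1 : φ - c • θ B (τpb pb) (pb.gen ^ n) ∈ LinearMap.range (θ B (τpb pb)) := by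
      apply ih (by omega)
      intro j hj
      have e : pb.gen ^ n * pb.basis j = pb.gen ^ (n + j) := by
        rw [pb.basis_eq_pow j, ← pow_add]
      rw [LinearMap.sub_apply, LinearMap.smul_apply, θ_apply, e]
      by_cases hjk : (j : ℕ) + (n + 1) < pb.dim
      · rw [hφ j hjk, τpb_pow pb _ (by omega), if_neg (by omega), smul_zero, sub_zero]
      · have hj' : (j : ℕ) = pb.dim - 1 - n := by omega
        have hjk₀ : j = k₀ := Fin.ext hj'
        rw [τpb_pow pb _ (by omega), if_pos (by omega), hjk₀, ← hc, smul_eq_mul, mul_one, sub_self]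
    have h2 : c • θ B (τpb pb) (pb.gen ^ n) ∈ LinearMap.range (θ B (τpb pb)) :=
      Submodule.smul_mem _ _ (LinearMap.mem_range_self _ _)
    have h3 := Submodule.add_mem _ h1 h2
    rwa [sub_add_cancel] at h3

theorem θ_bijective : Function.Bijective (θ B (τpb pb)) := by
  have hs : Function.Surjective (θ B (τpb pb)) := fun φ =>
    mem_range_of_vanish pb pb.dim le_rfl φ (fun j hj => absurd hj (by omega))
  haveI : Module.Finite R B := Module.Finite.of_basis pb.basis
  let e : B ≃ₗ[R] Module.Dual R B := pb.basis.toDualEquiv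
  have hs' : Function.Surjective (e.symm.toLinearMap ∘ₗ θ B (τpb pb)) :=
    e.symm.surjective.comp hs
  have hi := OrzechProperty.injective_of_surjective_endomorphism _ hs'
  refine ⟨fun a b h => hi ?_, hs⟩
  show e.symm (θ B (τpb pb) a) = e.symm (θ B (τpb pb) b)
  rw [h]

end PB

section Monic

open Polynomial

variable {R : Type u} [CommRing R] (g : R[X]) (hg : g.Monic)

include hg in
/-- **Frobenius duality for `R[X]/(g)`**, `g` monic. -/
theorem frob_monic (R' : Dual.D R ⥤ Dual.D (AdjoinRoot g))
    (adj : DRing.restrictD (algebraMap R (AdjoinRoot g)) ⊣ R') (K : Dual.D R) :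
    Nonempty (R'.obj K ≅ (DRing.LBaseChange (algebraMap R (AdjoinRoot g))).obj K) := by
  haveI : Module.Free R (AdjoinRoot g) := hg.free_adjoinRoot
  haveI : Module.Finite R (AdjoinRoot g) := hg.finite_adjoinRoot
  haveI : Module.Flat R (AdjoinRoot g) := inferInstance
  let pb := AdjoinRoot.powerBasis' hg
  exact frob_iso (AdjoinRoot g) (adjM (AdjoinRoot g) (τpb pb) (θ_bijective pb)) R' adj K

end Monic

end Helper5.Shriek.Frob
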