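import Mathlib
import Groth.Prelude.Def_DDual2
import Groth.Prelude.Def_DualSh
import Groth.Agent.Lib.Helper5.Shriek.HypMain
import Groth.Agent.Lib.Helper5.Shriek.FrobPB
import Groth.Agent.Lib.Helper5.Shriek.Indep
import Groth.Agent.Lib.Helper5.Shriek.FlatBCS

/-!
# The upper shriek of a finite ring map: the monogenic step
-/

set_option autoImplicit false
universe u
open CategoryTheory Limits Polynomial

attribute [local instance] HasDerivedCategory.standard

namespace Helper5.Shriek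

open DerivedCategory Groth.Agent.Lib.Helper5.DTenLib

section Step

variable {R A : Type u} [CommRing R] [CommRing A] (g : R[X]) (hg : g.Monic) (m : ℕ)

/-- the projection `R[X][y] → (R[X]/g)[y]` -/
noncomputable abbrev pj : MvPolynomial (Fin m) R[X] →+* MvPolynomial (Fin m) (AdjoinRoot g) :=
  MvPolynomial.map (AdjoinRoot.mk g)

lemma pj_surjective : Function.Surjective (pj g m) :=
  MvPolynomial.map_surjective _ AdjoinRoot.mk_surjective

lemma pj_ker : RingHom.ker (pj g m) = Ideal.span {MvPolynomial.C g} := by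
  rw [MvPolynomial.ker_map]
  have h : RingHom.ker (AdjoinRoot.mk g) = Ideal.span {g} := Ideal.mk_ker
  rw [h, Ideal.map_span, Set.image_singleton]

include hg in
lemma C_g_nzd (x : MvPolynomial (Fin m) R[X]) (hx : MvPolynomial.C g * x = 0) : x = 0 := by
  refine MvPolynomial.ext _ _ fun d => ?_
  have h := congrArg (MvPolynomial.coeff d) hx
  rw [MvPolynomial.coeff_C_mul, MvPolynomial.coeff_zero] at h
  rw [MvPolynomial.coeff_zero]
  exact (hg.mul_right_eq_zero_iff).1 h

include hg in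
lemma good_pj : Good (pj g m) 1 :=
  good_of_ker_span (pj g m) (pj_surjective g m) (MvPolynomial.C g) (pj_ker g m) (C_g_nzd g hg m)

lemma pj_comp :
    (pj g m).comp (algebraMap R (MvPolynomial (Fin m) R[X])) =
      (algebraMap (AdjoinRoot g) (MvPolynomial (Fin m) (AdjoinRoot g))).comp
        (algebraMap R (AdjoinRoot g)) := by
  refine RingHom.ext fun r => ?_
  show MvPolynomial.map (AdjoinRoot.mk g) (algebraMap R (MvPolynomial (Fin m) R[X]) r) =
    algebraMap (AdjoinRoot g) (MvPolynomial (Fin m) (AdjoinRoot g)) (algebraMap R (AdjoinRoot g) r)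
  rw [MvPolynomial.algebraMap_apply, MvPolynomial.map_C, MvPolynomial.algebraMap_eq]
  rfl

include hg in
theorem step_monic (χ : MvPolynomial (Fin m) (AdjoinRoot g) →+* A)
    (Rχ : Dual.D (MvPolynomial (Fin m) (AdjoinRoot g)) ⥤ Dual.D A)
    (adjχ : DRing.restrictD χ ⊣ Rχ)
    (RΨ : Dual.D (MvPolynomial (Fin m) R[X]) ⥤ Dual.D A)
    (adjΨ : DRing.restrictD (χ.comp (pj g m)) ⊣ RΨ) (K : Dual.D R) :
    Nonempty ((RΨ.obj ((DRing.LBaseChange
        (algebraMap R (MvPolynomial (Fin m) R[X]))).obj K))⟦((m + 1 : ℕ) : ℤ)⟧ ≅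
      Dual2.shriekVia m Rχ ((DRing.LBaseChange (algebraMap R (AdjoinRoot g))).obj K)) := by
  let p := pj g m
  let N := (DRing.LBaseChange (algebraMap R (MvPolynomial (Fin m) R[X]))).obj K
  let K' := (DRing.LBaseChange (algebraMap R (AdjoinRoot g))).obj K
  let Y := (DRing.LBaseChange
    (algebraMap (AdjoinRoot g) (MvPolynomial (Fin m) (AdjoinRoot g)))).obj K'
  let e1 : RΨ ≅ RCoext p ⋙ Rχ := rightAdjCompIso p χ (rAdj p) adjχ adjΨ
  obtain ⟨a⟩ := good_pj g hg m (RCoext p) (rAdj p) N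
  let eY : (DRing.LBaseChange p).obj N ≅ Y :=
    (lbcCompIso _ p).symm.app K ≪≫ (lbcEqIso (pj_comp g m)).app K ≪≫
      (lbcCompIso (algebraMap R (AdjoinRoot g)) _).app K
  let e2 : RΨ.obj N ≅ (Rχ.obj Y)⟦(-1 : ℤ)⟧ :=
    e1.app N ≪≫ Rχ.mapIso (a ≪≫ (shiftFunctor _ (-1 : ℤ)).mapIso eY) ≪≫
      rightAdjShiftIso χ adjχ Y (-1)
  exact ⟨(shiftFunctor (Dual.D A) ((m + 1 : ℕ) : ℤ)).mapIso e2 ≪≫
    (shiftFunctorAdd' (Dual.D A) (-1 : ℤ) ((m + 1 : ℕ) : ℤ) (m : ℤ) (by push_cast; ring)).symm.app _⟩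

end Step

end Helper5.Shriek
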