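import Mathlib
import Groth.Prelude.Def_DDual2
import Groth.Prelude.Def_DualSh
import Groth.Agent.Lib.Helper5.Shriek.FinStep

/-!
# The upper shriek of a finite ring map is `RHom(A, -)`
-/

set_option autoImplicit false
universe u
open CategoryTheory Limits Polynomial

attribute [local instance] HasDerivedCategory.standard

namespace Helper5.Shriek

open DerivedCategory Groth.Agent.Lib.Helper5.DTenLib

/-- derived base change along the identity -/
noncomputable def lbcIdIso (R : Type u) [CommRing R] :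
    DRing.LBaseChange (RingHom.id R) ≅ 𝟭 (Dual.D R) :=
  (myAdj (RingHom.id R)).leftAdjointUniq
    (Adjunction.ofNatIsoRight Adjunction.id (restrictDIdIso R).symm)

theorem fin_base {R A : Type u} [CommRing R] [CommRing A] [Algebra R A]
    (ψ₀ : MvPolynomial (Fin 0) R →ₐ[R] A)
    (R' : Dual.D R ⥤ Dual.D A) (adjR : DRing.restrictD (algebraMap R A) ⊣ R') (K : Dual.D R) :
    Nonempty (Dual2.shriekVia 0 (RCoext ψ₀.toRingHom) K ≅ R'.obj K) := by
  let e : R ≃+* MvPolynomial (Fin 0) R :=
    (MvPolynomial.isEmptyAlgEquiv R (Fin 0)).symm.toRingEquiv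
  have hF : FLI e.toRingHom e.symm.toRingHom ((0 : ℕ) : ℤ) :=
    (FLI.of_ringEquiv e).congr rfl rfl (by simp)
  have hΨ : ψ₀.toRingHom = (algebraMap R A).comp e.symm.toRingHom := by
    apply MvPolynomial.ringHom_ext
    · intro r
      show ψ₀ (MvPolynomial.C r) =
        algebraMap R A ((MvPolynomial.isEmptyAlgEquiv R (Fin 0)) (MvPolynomial.C r))
      rw [← MvPolynomial.algebraMap_eq, AlgHom.commutes, AlgEquiv.commutes]
      rfl
    · intro i
      exact i.elim0
  have hν : algebraMap R (MvPolynomial (Fin 0) R) = e.toRingHom.comp (RingHom.id R) := by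
    refine RingHom.ext fun r => ?_
    exact ((MvPolynomial.isEmptyAlgEquiv R (Fin 0)).symm.commutes r).symm
  obtain ⟨i⟩ := hF.reduce (RingHom.id R) (algebraMap R A) R' adjR ψ₀.toRingHom hΨ
    (RCoext ψ₀.toRingHom) (rAdj _) (algebraMap R (MvPolynomial (Fin 0) R)) hν K
  exact ⟨i.symm ≪≫ R'.mapIso ((lbcIdIso R).app K)⟩

theorem fin_aux : ∀ (m : ℕ) (R A : Type u) [CommRing R] [CommRing A] [Algebra R A]
    (a : Fin m → A) (f : Fin m → R[X]), (∀ i, (f i).Monic) →
    (∀ i, Polynomial.aeval (a i) (f i) = 0) →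
    Function.Surjective (MvPolynomial.aeval a : MvPolynomial (Fin m) R →ₐ[R] A) →
    ∀ (n : ℕ) (ψ : MvPolynomial (Fin n) R →ₐ[R] A), Function.Surjective ψ →
    ∀ (Rψ : Dual.D (MvPolynomial (Fin n) R) ⥤ Dual.D A), (DRing.restrictD ψ.toRingHom ⊣ Rψ) →
    ∀ (R' : Dual.D R ⥤ Dual.D A), (DRing.restrictD (algebraMap R A) ⊣ R') → ∀ (K : Dual.D R),
    Nonempty (Dual2.shriekVia n Rψ K ≅ R'.obj K) := by
  intro m
  induction m with
  | zero =>
    intro R A _ _ _ a f hf ha hgen n ψ hψ Rψ adj R' adjR K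
    let ψ₀ : MvPolynomial (Fin 0) R →ₐ[R] A := MvPolynomial.aeval a
    obtain ⟨i1⟩ := shriek_indep R A n ψ hψ Rψ adj 0 ψ₀ hgen (RCoext ψ₀.toRingHom) (rAdj _) K
    obtain ⟨i2⟩ := fin_base ψ₀ R' adjR K
    exact ⟨i1 ≪≫ i2⟩
  | succ m ih =>
    intro R A _ _ _ a f hf ha hgen n ψ hψ Rψ adj R' adjR K
    let g := f 0
    have hg : g.Monic := hf 0
    let B := AdjoinRoot g
    let φB : B →ₐ[R] A := AdjoinRoot.liftAlgHom g (Algebra.ofId R A) (a 0) (ha 0)
    letI : Algebra B A := φB.toRingHom.toAlgebra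
    haveI : IsScalarTower R B A :=
      IsScalarTower.of_algebraMap_eq (fun r => (φB.commutes r).symm)
    let a' : Fin m → A := fun i => a i.succ
    let f' : Fin m → B[X] := fun i => (f i.succ).map (algebraMap R B)
    have hf' : ∀ i, (f' i).Monic := fun i => (hf i.succ).map _
    have ha' : ∀ i, Polynomial.aeval (a' i) (f' i) = 0 := fun i => by
      show Polynomial.aeval (a i.succ) ((f i.succ).map (algebraMap R B)) = 0
      rw [Polynomial.aeval_map_algebraMap]
      exact ha i.succ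
    let χ : MvPolynomial (Fin m) B →ₐ[B] A := MvPolynomial.aeval a'
    have hroot : algebraMap B A (AdjoinRoot.root g) = a 0 := by
      show φB (AdjoinRoot.root g) = a 0
      exact AdjoinRoot.liftAlgHom_root g (Algebra.ofId R A) (a 0) (ha 0)
    have hχ : Function.Surjective χ := by
      intro y
      obtain ⟨q, rfl⟩ := hgen y
      have key : ∀ q : MvPolynomial (Fin (m + 1)) R, (MvPolynomial.aeval a q : A) ∈ χ.range := by
        intro q
        induction q using MvPolynomial.induction_on with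
        | C r =>
          refine ⟨MvPolynomial.C (algebraMap R B r), ?_⟩
          show χ (MvPolynomial.C (algebraMap R B r)) = MvPolynomial.aeval a (MvPolynomial.C r)
          rw [MvPolynomial.aeval_C, MvPolynomial.aeval_C, ← IsScalarTower.algebraMap_apply]
        | add p q hp hq =>
          rw [map_add]
          exact Subalgebra.add_mem _ hp hq
        | mul_X p i hp =>
          rw [map_mul, MvPolynomial.aeval_X]
          refine Subalgebra.mul_mem _ hp ?_
          refine Fin.cases ?_ (fun j => ?_) i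
          · refine ⟨MvPolynomial.C (AdjoinRoot.root g), ?_⟩
            show χ (MvPolynomial.C (AdjoinRoot.root g)) = a 0
            rw [MvPolynomial.aeval_C]
            exact hroot
          · exact ⟨MvPolynomial.X j, MvPolynomial.aeval_X _ _⟩
      exact key q
    let C := MvPolynomial (Fin m) R[X]
    let Ψ : C →+* A := χ.toRingHom.comp (pj g m)
    have hΨalg : ∀ r : R, Ψ (algebraMap R C r) = algebraMap R A r := by
      intro r
      have h := RingHom.congr_fun (pj_comp g m) r
      show χ ((pj g m).comp (algebraMap R C) r) = _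
      rw [h, RingHom.comp_apply, AlgHom.commutes, ← IsScalarTower.algebraMap_apply]
    let ΨA : C →ₐ[R] A := { Ψ with commutes' := hΨalg }
    let e : MvPolynomial (Fin (m + 1)) R ≃ₐ[R] C :=
      (MvPolynomial.renameEquiv R (finSuccEquiv m)).trans (MvPolynomial.optionEquivRight R (Fin m))
    let ψ₁ : MvPolynomial (Fin (m + 1)) R →ₐ[R] A := ΨA.comp e.toAlgHom
    have hψ₁ : Function.Surjective ψ₁ := (hχ.comp (pj_surjective g m)).comp e.surjective
    have hF : FLI e.toRingEquiv.toRingHom e.toRingEquiv.symm.toRingHom 0 :=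
      FLI.of_ringEquiv e.toRingEquiv
    have hΨ' : Ψ = ψ₁.toRingHom.comp e.toRingEquiv.symm.toRingHom := by
      refine RingHom.ext fun x => ?_
      show Ψ x = ΨA (e (e.symm x))
      rw [AlgEquiv.apply_symm_apply]
      rfl
    have hν : algebraMap R C =
        e.toRingEquiv.toRingHom.comp (algebraMap R (MvPolynomial (Fin (m + 1)) R)) := by
      refine RingHom.ext fun r => ?_
      exact (e.commutes r).symm
    let Z : Dual.D A := (RCoext Ψ).obj ((DRing.LBaseChange (algebraMap R C)).obj K)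
    let K' : Dual.D B := (DRing.LBaseChange (algebraMap R B)).obj K
    obtain ⟨i1⟩ := shriek_indep R A n ψ hψ Rψ adj (m + 1) ψ₁ hψ₁ (RCoext ψ₁.toRingHom)
      (rAdj _) K
    obtain ⟨i3⟩ := hF.reduce (algebraMap R _) ψ₁.toRingHom (RCoext ψ₁.toRingHom) (rAdj _) Ψ hΨ'
      (RCoext Ψ) (rAdj Ψ) (algebraMap R C) hν K
    obtain ⟨i4⟩ := step_monic g hg m χ.toRingHom (RCoext χ.toRingHom) (rAdj _) (RCoext Ψ)
      (rAdj Ψ) K
    obtain ⟨i5⟩ := ih B A a' f' hf' ha' hχ m χ hχ (RCoext χ.toRingHom) (rAdj _)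
      (RCoext (algebraMap B A)) (rAdj _) K'
    obtain ⟨i6⟩ := Frob.frob_monic g hg (RCoext (algebraMap R B)) (rAdj _) K
    have heq : algebraMap R A = (algebraMap B A).comp (algebraMap R B) :=
      IsScalarTower.algebraMap_eq R B A
    let adjR' : DRing.restrictD ((algebraMap B A).comp (algebraMap R B)) ⊣ R' :=
      Adjunction.ofNatIsoLeft adjR (restrictDEqIso heq)
    let i7 : R' ≅ RCoext (algebraMap R B) ⋙ RCoext (algebraMap B A) :=
      rightAdjCompIso _ _ (rAdj _) (rAdj _) adjR'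
    let j1 : Dual2.shriekVia (m + 1) (RCoext ψ₁.toRingHom) K ≅ Z⟦((m + 1 : ℕ) : ℤ)⟧ :=
      (shiftFunctor (Dual.D A) ((m + 1 : ℕ) : ℤ)).mapIso
        (i3 ≪≫ (shiftFunctorZero (Dual.D A) ℤ).app Z)
    exact ⟨i1 ≪≫ j1 ≪≫ i4 ≪≫ i5 ≪≫ (RCoext (algebraMap B A)).mapIso i6.symm ≪≫
      (i7.app K).symm⟩

/-- **The finite case**: for a finite ring map `R → A`, `φ^!(K) ≅ RHom_R(A, K)`. -/
theorem finite_shriek (R A : Type u) [CommRing R] [CommRing A] [Algebra R A] [Module.Finite R A]
    (n : ℕ) (ψ : MvPolynomial (Fin n) R →ₐ[R] A) (hψ : Function.Surjective ψ)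
    (Rψ : Dual.D (MvPolynomial (Fin n) R) ⥤ Dual.D A)
    (adj : DRing.restrictD ψ.toRingHom ⊣ Rψ)
    (R' : Dual.D R ⥤ Dual.D A) (adjR : DRing.restrictD (algebraMap R A) ⊣ R') (K : Dual.D R) :
    Nonempty (Dual2.shriekVia n Rψ K ≅ R'.obj K) := by
  obtain ⟨m, a, ha⟩ := Module.Finite.exists_fin (R := R) (M := A)
  have hint : ∀ i, IsIntegral R (a i) := fun i => Algebra.IsIntegral.isIntegral (a i)
  choose f hfm hf0 using hint
  have hgen : Function.Surjective (MvPolynomial.aeval a : MvPolynomial (Fin m) R →ₐ[R] A) := by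
    intro y
    have hy : y ∈ Submodule.span R (Set.range a) := by rw [ha]; trivial
    obtain ⟨c, hc⟩ := (Submodule.mem_span_range_iff_exists_fun R).1 hy
    refine ⟨∑ i, MvPolynomial.C (c i) * MvPolynomial.X i, ?_⟩
    rw [map_sum, ← hc]
    refine Finset.sum_congr rfl fun i _ => ?_
    rw [map_mul, MvPolynomial.aeval_C, MvPolynomial.aeval_X, Algebra.smul_def]
  exact fin_aux m R A a f hfm (fun i => by rw [Polynomial.aeval_def]; exact hf0 i) hgen n ψ hψ Rψ
    adj R' adjR K

end Helper5.Shriek
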