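import Mathlib
import Groth.Prelude.Def_DDual2
import Groth.Prelude.Def_DualSh
import Groth.Agent.Lib.Helper5.Shriek.FinMain

/-!
# The upper shriek of a flat epimorphism (e.g. an open immersion), on bounded below objects
-/

set_option autoImplicit false
universe u
open CategoryTheory Limits TensorProduct AlgebraicGeometry

attribute [local instance] HasDerivedCategory.standard

namespace Helper5.Shriek

open DerivedCategory Groth.Agent.Lib.Helper5.DTenLib

section Translate

variable (R R' : Type u) [CommRing R] [CommRing R'] [Algebra R R']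

theorem isEpi_of_isOpenImmersion
    (hopen : IsOpenImmersion (Spec.map (CommRingCat.ofHom (algebraMap R R')))) :
    Algebra.IsEpi R R' := by
  rw [← CommRingCat.epi_iff_epi]
  haveI := hopen
  haveI : Mono (Spec.map (CommRingCat.ofHom (algebraMap R R'))) := inferInstance
  refine ⟨fun g h e => Spec.map_injective ?_⟩
  rw [← cancel_mono (Spec.map (CommRingCat.ofHom (algebraMap R R'))), ← Spec.map_comp,
    ← Spec.map_comp, e]

theorem flat_of_isOpenImmersion
    (hopen : IsOpenImmersion (Spec.map (CommRingCat.ofHom (algebraMap R R')))) :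
    Module.Flat R R' := by
  haveI := hopen
  have h : Flat (Spec.map (CommRingCat.ofHom (algebraMap R R'))) := inferInstance
  rw [Flat.SpecMap_iff] at h
  exact (RingHom.flat_algebraMap_iff).1 h

end Translate

section Epi

variable (R R' : Type u) [CommRing R] [CommRing R'] [Algebra R R'] [Algebra.IsEpi R R']

lemma tmul_eq_mul_one (a b : R') : a ⊗ₜ[R] b = (a * b) ⊗ₜ[R] (1 : R') := by
  have h : (1 : R') ⊗ₜ[R] b = b ⊗ₜ[R] (1 : R') :=
    ((Algebra.isEpi_iff_forall_one_tmul_eq R R').1 inferInstance) b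
  calc a ⊗ₜ[R] b = (a ⊗ₜ[R] (1 : R')) * ((1 : R') ⊗ₜ[R] b) := by
        rw [Algebra.TensorProduct.tmul_mul_tmul, mul_one, one_mul]
    _ = (a ⊗ₜ[R] (1 : R')) * (b ⊗ₜ[R] (1 : R')) := by rw [h]
    _ = (a * b) ⊗ₜ[R] (1 : R') := by
        rw [Algebra.TensorProduct.tmul_mul_tmul, mul_one]

lemma algebraMap_tensor_surjective : Function.Surjective (algebraMap R' (R' ⊗[R] R')) := by
  intro x
  induction x using TensorProduct.induction_on with
  | zero => exact ⟨0, map_zero _⟩
  | tmul a b =>
    refine ⟨a * b, ?_⟩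
    rw [tmul_eq_mul_one R R' a b]
    rfl
  | add x y hx hy =>
    obtain ⟨a, rfl⟩ := hx
    obtain ⟨b, rfl⟩ := hy
    exact ⟨a + b, map_add _ a b⟩

/-- multiplication `R' ⊗ R' → R'` -/
noncomputable abbrev mulHom : R' ⊗[R] R' →+* R' :=
  (Algebra.TensorProduct.lmul' R (S := R')).toRingHom

lemma mulHom_comp_left : (mulHom R R').comp (algebraMap R' (R' ⊗[R] R')) = RingHom.id R' := by
  refine RingHom.ext fun a => ?_
  show Algebra.TensorProduct.lmul' R (S := R') (a ⊗ₜ[R] (1 : R')) = a
  rw [Algebra.TensorProduct.lmul'_apply_tmul, mul_one]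

lemma mulHom_comp_right :
    (mulHom R R').comp (Algebra.TensorProduct.includeRight : R' →ₐ[R] R' ⊗[R] R').toRingHom =
      RingHom.id R' := by
  refine RingHom.ext fun a => ?_
  show Algebra.TensorProduct.lmul' R (S := R') ((1 : R') ⊗ₜ[R] a) = a
  rw [Algebra.TensorProduct.lmul'_apply_tmul, one_mul]

end Epi

/-- for a flat epimorphism `R → R'` of finite type of noetherian rings, the upper shriek is
derived base change, on bounded below objects -/
theorem shriek_of_epi_flat (R R' : Type u) [CommRing R] [CommRing R'] [IsNoetherianRing R]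
    [IsNoetherianRing R'] [Algebra R R'] [Module.Flat R R'] [Algebra.IsEpi R R']
    (n : ℕ) (ψ : MvPolynomial (Fin n) R →ₐ[R] R') (hψ : Function.Surjective ψ)
    (Rψ : Dual.D (MvPolynomial (Fin n) R) ⥤ Dual.D R')
    (adj : DRing.restrictD ψ.toRingHom ⊣ Rψ) (K : Dual.D R) (c : ℤ)
    (hK : ∀ i : ℤ, i < c → Subsingleton (Dual.HD R K i)) :
    Nonempty (Dual2.shriekVia n Rψ K ≅ (DRing.LBaseChange (algebraMap R R')).obj K) := by
  let A' := R' ⊗[R] R'
  let incR : R' →+* A' := (Algebra.TensorProduct.includeRight : R' →ₐ[R] R' ⊗[R] R').toRingHom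
  let μ : A' →+* R' := mulHom R R'
  have hsurj : Function.Surjective (algebraMap R' A') := algebraMap_tensor_surjective R R'
  have hinj : Function.Injective (algebraMap R' A') := by
    intro a b h
    have := congrArg μ h
    have e := mulHom_comp_left R R'
    rw [← RingHom.comp_apply, ← RingHom.comp_apply, e] at this
    exact this
  let ψ₀ : MvPolynomial (Fin 0) R' →ₐ[R'] A' := MvPolynomial.aeval (fun i => i.elim0)
  have hψ₀ : Function.Surjective ψ₀ := by
    intro y
    obtain ⟨a, rfl⟩ := hsurj y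
    exact ⟨MvPolynomial.C a, MvPolynomial.aeval_C _ a⟩
  let K'' : Dual.D R' := (DRing.LBaseChange (algebraMap R R')).obj K
  let Sh : Dual.D R' := Dual2.shriekVia n Rψ K
  obtain ⟨i1⟩ := shriek_flat_bc R R' R' n ψ hψ Rψ adj 0 ψ₀ hψ₀ (RCoext ψ₀.toRingHom) (rAdj _)
    K c hK
  obtain ⟨i2⟩ := fin_base ψ₀ (RCoext (algebraMap R' A')) (rAdj _) K''
  let e : R' ≃+* A' := RingEquiv.ofBijective (algebraMap R' A') ⟨hinj, hsurj⟩
  have hG : Good (algebraMap R' A') 0 :=
    (good_of_ringEquiv e).congr (RingHom.ext fun _ => rfl) rfl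
  obtain ⟨i3⟩ := hG (RCoext (algebraMap R' A')) (rAdj _) K''
  let i4 : (DRing.LBaseChange incR).obj Sh ≅ (DRing.LBaseChange (algebraMap R' A')).obj K'' :=
    i1 ≪≫ i2 ≪≫ i3 ≪≫ (shiftFunctorZero' (Dual.D A') (-0) (by ring)).app _
  let l1 : (DRing.LBaseChange μ).obj ((DRing.LBaseChange incR).obj Sh) ≅ Sh :=
    (lbcCompIso incR μ).symm.app Sh ≪≫ (lbcEqIso (mulHom_comp_right R R')).app Sh ≪≫
      (lbcIdIso R').app Sh
  let l2 : (DRing.LBaseChange μ).obj ((DRing.LBaseChange (algebraMap R' A')).obj K'') ≅ K'' :=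
    (lbcCompIso (algebraMap R' A') μ).symm.app K'' ≪≫
      (lbcEqIso (mulHom_comp_left R R')).app K'' ≪≫ (lbcIdIso R').app K''
  exact ⟨l1.symm ≪≫ (DRing.LBaseChange μ).mapIso i4 ≪≫ l2⟩

end Helper5.Shriek
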