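import Mathlib
import Groth.Prelude.Def_DDual2
import Groth.Prelude.Def_DualSh
import Groth.Prelude.Def_Disc
import Groth.Agent.Lib.Helper5.Shriek.OpenImm
import Groth.Agent.Lib.Helper3.FinCoh
import Groth.Agent.Lib.Helper5.RGam.TorsBC

/-!
# The relative dualizing module of a quasi-finite morphism `A → B' → B`
-/

set_option autoImplicit false
universe u
open CategoryTheory Limits TensorProduct AlgebraicGeometry

attribute [local instance] HasDerivedCategory.standard

namespace Helper5.Shriek.QFin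

open DerivedCategory Groth.Agent.Helper3.FinAdj Groth.Agent.Helper3.HomUnit
  Groth.Agent.Helper3.BCDual Groth.Agent.Helper3.BCDer Groth.Agent.Helper5.FlatBC

section Omega

variable {A B : Type u} [CommRing A] [CommRing B] [Algebra A B]
  {R : Dual.D A ⥤ Dual.D B} (adj : DRing.restrictD (algebraMap A B) ⊣ R)

/-- multiplication by `b` as an `A`-linear endomorphism of `B` -/
noncomputable def mulA (b : B) : ModuleCat.of A B ⟶ ModuleCat.of A B :=
  ModuleCat.ofHom (LinearMap.mulLeft A b)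

lemma extT_smul_B (Y : Dual.D A) (i : ℤ) (b : B) (f : Dual.inD B B ⟶ (R.obj Y)⟦i⟧) :
    extT adj B Y i (b • f) =
      (singleFunctor (ModuleCat.{u} A) 0).map (mulA (A := A) b) ≫ extT adj B Y i f := by
  have h : b • f = (singleFunctor (ModuleCat.{u} B) 0).map (b • 𝟙 (ModuleCat.of B B)) ≫ f := by
    rw [Functor.map_smul, CategoryTheory.Functor.map_id, Linear.smul_comp, Category.id_comp]
  rw [h]
  set g : ModuleCat.of B B ⟶ ModuleCat.of B B := b • 𝟙 (ModuleCat.of B B) with hg
  have nat : (res (algebraMap A B)).map ((singleFunctor (ModuleCat.{u} B) 0).map g) ≫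
      (resInD (algebraMap A B) (ModuleCat.of B B)).hom =
      (resInD (algebraMap A B) (ModuleCat.of B B)).hom ≫
        (singleFunctor (ModuleCat.{u} A) 0).map ((resM (algebraMap A B)).map g) :=
    ((resM (algebraMap A B)).mapDerivedCategorySingleFunctor 0).hom.naturality g
  have nat' : (resInD (algebraMap A B) (ModuleCat.of B B)).inv ≫
      (res (algebraMap A B)).map ((singleFunctor (ModuleCat.{u} B) 0).map g) =
      (singleFunctor (ModuleCat.{u} A) 0).map ((resM (algebraMap A B)).map g) ≫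
        (resInD (algebraMap A B) (ModuleCat.of B B)).inv := by
    rw [Iso.inv_comp_eq, ← Category.assoc, ← nat, Category.assoc, Iso.hom_inv_id, Category.comp_id]
  have hm : (towerEquiv (A := A) (B := B) B).toModuleIso.hom ≫ (resM (algebraMap A B)).map g =
      mulA (A := A) b ≫ (towerEquiv (A := A) (B := B) B).toModuleIso.hom := by
    ext x
    rfl
  show (singleFunctor (ModuleCat.{u} A) 0).map (towerEquiv (A := A) (B := B) B).toModuleIso.hom ≫
      (resInD (algebraMap A B) (ModuleCat.of B B)).inv ≫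
        homEquiv (algebraMap A B) adj _ Y i ((singleFunctor (ModuleCat.{u} B) 0).map g ≫ f) =
    (singleFunctor (ModuleCat.{u} A) 0).map (mulA (A := A) b) ≫
      (singleFunctor (ModuleCat.{u} A) 0).map (towerEquiv (A := A) (B := B) B).toModuleIso.hom ≫
        (resInD (algebraMap A B) (ModuleCat.of B B)).inv ≫
          homEquiv (algebraMap A B) adj _ Y i f
  rw [homEquiv_comp, ← Category.assoc (resInD (algebraMap A B) (ModuleCat.of B B)).inv, nat',
    Category.assoc, ← Category.assoc ((singleFunctor (ModuleCat.{u} A) 0).map _),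
    ← Functor.map_comp, hm, Functor.map_comp, Category.assoc]

/-- the single functor in degree zero -/
noncomputable abbrev sA (A : Type u) [CommRing A] : ModuleCat.{u} A ⥤ Dual.D A :=
  singleFunctor (ModuleCat.{u} A) 0

/-- the shift by zero -/
noncomputable abbrev z0 (A : Type u) [CommRing A] : (Dual.inD A A)⟦(0 : ℤ)⟧ ≅ Dual.inD A A :=
  (shiftFunctorZero (Dual.D A) ℤ).app (Dual.inD A A)

/-- the preimage under the single functor -/
noncomputable abbrev pre (g : Dual.inD A B ⟶ Dual.inD A A) : ModuleCat.of A B ⟶ ModuleCat.of A A :=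
  (sA A).preimage (X := ModuleCat.of A B) (Y := ModuleCat.of A A) g

lemma map_pre (g : Dual.inD A B ⟶ Dual.inD A A) : (sA A).map (pre g) = g :=
  Functor.map_preimage _ _

lemma pre_map (m : ModuleCat.of A B ⟶ ModuleCat.of A A) : pre ((sA A).map m) = m :=
  (sA A).preimage_map m

lemma pre_add (g g' : Dual.inD A B ⟶ Dual.inD A A) : pre (g + g') = pre g + pre g' := by
  apply (sA A).map_injective
  rw [Functor.map_add, map_pre, map_pre, map_pre]

lemma pre_comp (m : ModuleCat.of A B ⟶ ModuleCat.of A B) (g : Dual.inD A B ⟶ Dual.inD A A) :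
    pre ((sA A).map m ≫ g) = m ≫ pre g := by
  apply (sA A).map_injective
  rw [Functor.map_comp, map_pre, map_pre]

/-- morphisms `B[0] → A[0][0]` in `D(A)` are the elements of `ω_{B/A}` -/
noncomputable def homOmega : (Dual.inD A B ⟶ (Dual.inD A A)⟦(0 : ℤ)⟧) ≃+ Disc.Omega A B where
  toFun g := ⟨(pre (g ≫ (z0 A).hom)).hom⟩
  invFun ω := (sA A).map (X := ModuleCat.of A B) (Y := ModuleCat.of A A)
    (ModuleCat.ofHom ω.toLinearMap) ≫ (z0 A).inv
  left_inv g := by
    show (sA A).map (ModuleCat.ofHom (pre (g ≫ (z0 A).hom)).hom) ≫ (z0 A).inv = g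
    rw [ModuleCat.ofHom_hom, map_pre, Category.assoc, Iso.hom_inv_id, Category.comp_id]
  right_inv ω := by
    apply Disc.Omega.ext
    show (pre (((sA A).map (X := ModuleCat.of A B) (Y := ModuleCat.of A A)
      (ModuleCat.ofHom ω.toLinearMap) ≫ (z0 A).inv) ≫ (z0 A).hom)).hom = ω.toLinearMap
    rw [Category.assoc, Iso.inv_hom_id, Category.comp_id, pre_map, ModuleCat.hom_ofHom]
  map_add' g g' := by
    apply Disc.Omega.ext
    show (pre ((g + g') ≫ (z0 A).hom)).hom = (pre (g ≫ (z0 A).hom)).hom + (pre (g' ≫ (z0 A).hom)).hom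
    rw [Preadditive.add_comp, pre_add, ModuleCat.hom_add]

lemma homOmega_comp (b : B) (g : Dual.inD A B ⟶ (Dual.inD A A)⟦(0 : ℤ)⟧) :
    homOmega ((singleFunctor (ModuleCat.{u} A) 0).map (mulA (A := A) b) ≫ g) =
      b • homOmega g := by
  apply Disc.Omega.ext
  show (pre (((sA A).map (mulA (A := A) b) ≫ g) ≫ (z0 A).hom)).hom = _
  rw [Category.assoc, pre_comp]
  rfl

/-- `H^0` of `R(A[0])` is `ω_{B/A}` -/
noncomputable def omegaEquiv : Dual.HD B (R.obj (Dual.inD A A)) 0 ≃ₗ[B] Disc.Omega A B :=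
  (unitEquiv (R.obj (Dual.inD A A)) 0).symm ≪≫ₗ
    AddEquiv.toLinearEquiv ((extT adj B (Dual.inD A A) 0).trans homOmega) (fun b f => by
      show homOmega (extT adj B _ 0 (b • f)) = b • homOmega (extT adj B _ 0 f)
      rw [extT_smul_B, homOmega_comp])

end Omega

section Main

/-- cohomology of a flat derived base change -/
noncomputable def hdLbc (B' B : Type u) [CommRing B'] [CommRing B] [Algebra B' B] [Module.Flat B' B]
    (M : Dual.D B') (N : Type u) [AddCommGroup N] [Module B' N]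
    (e : Dual.HD B' M 0 ≃ₗ[B'] N) :
    Dual.HD B ((DRing.LBaseChange (algebraMap B' B)).obj M) 0 ≃ₗ[B] (B ⊗[B'] N) :=
  ((homologyFunctor (ModuleCat.{u} B) 0).mapIso ((lbcIsoG (A := B') B).app M)).toLinearEquiv ≪≫ₗ
    (homologyGIso B M 0).toLinearEquiv ≪≫ₗ
    Helper5.RGam.extendScalarsLinearEquiv (algebraMap B' B)
      (M := (homologyFunctor (ModuleCat.{u} B') 0).obj M) (N := ModuleCat.of B' N) e ≪≫ₗ
    (eqvT B N).symm

theorem qfin_main (A B B' : Type u) [CommRing A] [CommRing B] [CommRing B'] [IsNoetherianRing A]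
    [IsNoetherianRing B] [Algebra A B] [Algebra A B'] [Algebra B' B] [IsScalarTower A B' B]
    [Module.Finite A B']
    (hopen : IsOpenImmersion (Spec.map (CommRingCat.ofHom (algebraMap B' B)))) (n : ℕ)
    (ψ : MvPolynomial (Fin n) A →ₐ[A] B) (hψ : Function.Surjective ψ)
    (Rψ : Dual.D (MvPolynomial (Fin n) A) ⥤ Dual.D B) (adj : DRing.restrictD ψ.toRingHom ⊣ Rψ) :
    Nonempty (Dual.HD B (Dual2.shriekVia n Rψ (Dual.inD A A)) 0 ≃ₗ[B]
      (B ⊗[B'] Disc.Omega A B')) := by
  haveI : IsNoetherianRing B' := IsNoetherianRing.of_finite A B'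
  haveI : Module.Flat B' B := flat_of_isOpenImmersion B' B hopen
  haveI : Algebra.IsEpi B' B := isEpi_of_isOpenImmersion B' B hopen
  have hft : Algebra.FiniteType A B' := inferInstance
  obtain ⟨n', ψ', hψ'⟩ := Algebra.FiniteType.iff_quotient_mvPolynomial''.1 hft
  let χ : MvPolynomial (Fin n) B' →ₐ[B'] B := MvPolynomial.aeval (fun i => ψ (MvPolynomial.X i))
  have hχ : Function.Surjective χ := by
    intro y
    obtain ⟨p, rfl⟩ := hψ y
    refine ⟨MvPolynomial.map (algebraMap A B') p, ?_⟩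
    show MvPolynomial.aeval (fun i => ψ (MvPolynomial.X i)) (MvPolynomial.map (algebraMap A B') p)
      = ψ p
    rw [MvPolynomial.aeval_map_algebraMap]
    conv_rhs => rw [MvPolynomial.aeval_unique ψ]
    rfl
  let K : Dual.D A := Dual.inD A A
  haveI : K.IsGE 0 := inferInstance
  have hK : ∀ i : ℤ, i < 0 → Subsingleton (Dual.HD A K i) := by
    intro i hi
    exact ModuleCat.subsingleton_of_isZero (DerivedCategory.isZero_of_isGE K 0 i hi)
  let R' : Dual.D A ⥤ Dual.D B' := RCoext (algebraMap A B')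
  have adjR' : DRing.restrictD (algebraMap A B') ⊣ R' := rAdj _
  let M : Dual.D B' := R'.obj K
  obtain ⟨i1⟩ := shriek_comp A B' B n' ψ' hψ' (RCoext ψ'.toRingHom) (rAdj _)
    n χ hχ (RCoext χ.toRingHom) (rAdj _) n ψ hψ Rψ adj K 0 hK
  obtain ⟨i2⟩ := finite_shriek A B' n' ψ' hψ' (RCoext ψ'.toRingHom) (rAdj _) R' adjR' K
  have hM : ∀ i : ℤ, i < 0 → Subsingleton (Dual.HD B' M i) := fun i hi =>
    Groth.Agent.Helper3.FinCoh.subsingleton_homology_R adjR' K 0 i hi
  obtain ⟨i3⟩ := shriek_of_epi_flat B' B n χ hχ (RCoext χ.toRingHom) (rAdj _) M 0 hM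
  let i2' : Dual2.shriekVia n (RCoext χ.toRingHom)
        (Dual2.shriekVia n' (RCoext ψ'.toRingHom) K) ≅
      Dual2.shriekVia n (RCoext χ.toRingHom) M :=
    (shiftFunctor (Dual.D B) (n : ℤ)).mapIso ((RCoext χ.toRingHom).mapIso
      ((DRing.LBaseChange (algebraMap B' (MvPolynomial (Fin n) B'))).mapIso i2))
  let E1 : Dual.HD B (Dual2.shriekVia n Rψ K) 0 ≃ₗ[B]
      Dual.HD B ((DRing.LBaseChange (algebraMap B' B)).obj M) 0 :=
    ((homologyFunctor (ModuleCat.{u} B) 0).mapIso (i1 ≪≫ i2' ≪≫ i3)).toLinearEquiv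
  exact ⟨E1 ≪≫ₗ hdLbc B' B M (Disc.Omega A B') (omegaEquiv adjR')⟩

end Main

end Helper5.Shriek.QFin
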